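import Groth.Agent.InjHull18.Dual
import Mathlib.Algebra.Module.LocalizedModule.Submodule
import Mathlib.RingTheory.Localization.AtPrime.Basic
import Mathlib.RingTheory.Localization.Finiteness
import Mathlib.RingTheory.LocalRing.ResidueField.Basic

/-!
Chains with faithful subquotients in Artinian modules over complete local rings are finite.
-/

set_option autoImplicit false
universe u v w

namespace Groth.Agent.FrobAlg54

open IsLocalRing

variable {R : Type u} [CommRing R]

theorem antitone_stabilizes {P : Ideal R} [P.IsPrime] {D : Type w} [AddCommGroup D] [Module R D]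
    [Module.Finite R D] [IsNoetherianRing R] (hP : ∀ a ∈ P, ∀ x : D, a • x = 0) (Z : ℕ → Submodule R D)
    (hZ : Antitone Z) : ∃ i, ∃ a, a ∉ P ∧ ∀ x ∈ Z i, a • x ∈ Z (i + 1) := by
  classical
  let S := P.primeCompl
  let RP := Localization.AtPrime P
  let V := LocalizedModule S D
  let f := LocalizedModule.mkLinearMap S D
  have hmax : ∀ a ∈ maximalIdeal RP, ∀ v : V, a • v = 0 := by
    intro a ha v
    rw [← Localization.AtPrime.map_eq_maximalIdeal] at ha
    induction ha using Submodule.span_induction with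
    | mem a ha =>
      obtain ⟨r, hr, rfl⟩ := ha
      rw [algebraMap_smul]
      induction v using LocalizedModule.induction_on with
      | h m s => rw [LocalizedModule.smul'_mk, hP r hr, LocalizedModule.zero_mk]
    | zero => exact zero_smul _ _
    | add a b _ _ ha hb => rw [add_smul, ha, hb, add_zero]
    | smul c a _ ha => rw [smul_eq_mul, mul_smul, ha, smul_zero]
  have htor : Module.IsTorsionBySet RP V (maximalIdeal RP) := fun v a => hmax _ a.2 v
  letI : Module (RP ⧸ maximalIdeal RP) V := htor.module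
  haveI : IsScalarTower RP (RP ⧸ maximalIdeal RP) V := htor.isScalarTower
  haveI : Module.Finite (RP ⧸ maximalIdeal RP) V := Module.Finite.of_restrictScalars_finite RP _ _
  letI : Field (RP ⧸ maximalIdeal RP) := Ideal.Quotient.field _
  haveI : IsArtinian (RP ⧸ maximalIdeal RP) V := inferInstance
  haveI : IsArtinian RP V :=
    isArtinian_of_surjective_algebraMap (S := RP) (R := RP ⧸ maximalIdeal RP) Ideal.Quotient.mk_surjective
  let L : ℕ → Submodule RP V := fun i => (Z i).localized' RP S f
  have hL : Antitone L := fun i j h => (Submodule.localized'gi RP S f).gc.monotone_l (hZ h)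
  obtain ⟨i, hi⟩ := IsArtinian.monotone_stabilizes (⟨fun i => OrderDual.toDual (L i), hL⟩ : ℕ →o (Submodule RP V)ᵒᵈ)
  refine ⟨i, ?_⟩
  have heq : L (i + 1) = L i := (OrderDual.toDual_inj.mp (hi (i + 1) (Nat.le_succ i))).symm
  obtain ⟨G, hG⟩ : (Z i).FG := IsNoetherian.noetherian (Z i)
  have hgen : ∀ x ∈ Z i, ∃ a : R, a ∉ P ∧ a • x ∈ Z (i + 1) := by
    intro x hx
    have h1 : f x ∈ L i := (Submodule.mem_localized' _ _ _ _ _).mpr ⟨x, hx, 1, IsLocalizedModule.mk'_one _ _ _⟩
    rw [← heq] at h1
    obtain ⟨m, hm, s, hs⟩ := (Submodule.mem_localized' _ _ _ _ _).mp h1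
    rw [← IsLocalizedModule.mk'_one S f x, IsLocalizedModule.mk'_eq_mk'_iff] at hs
    obtain ⟨c, hc⟩ := hs
    refine ⟨(c * s : S), (c * s).2, ?_⟩
    have e : ((c * s : S) : R) • x = (c : R) • m := by
      simpa [Submonoid.smul_def, mul_smul] using hc
    rw [e]
    exact Submodule.smul_mem _ _ hm
  choose a ha hax using hgen
  have hmem : ∀ g ∈ G, g ∈ Z i := fun g hg => hG ▸ Submodule.subset_span hg
  refine ⟨∏ g ∈ G.attach, a g.1 (hmem g.1 g.2), fun h => ?_, fun x hx => ?_⟩
  · obtain ⟨g, -, hg⟩ := (Ideal.IsPrime.prod_mem_iff).mp h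
    exact ha _ _ hg
  · rw [← hG] at hx
    induction hx using Submodule.span_induction with
    | mem g hg =>
      rw [← Finset.prod_erase_mul _ _ (Finset.mem_attach G ⟨g, hg⟩), mul_smul]
      exact Submodule.smul_mem _ _ (hax g _)
    | zero => simp
    | add p q _ _ hp hq => rw [smul_add]; exact add_mem hp hq
    | smul c p _ hp => rw [smul_comm]; exact Submodule.smul_mem _ _ hp

variable [IsLocalRing R] [IsNoetherianRing R] {E : Type u} [AddCommGroup E] [Module R E]
  {f : ResidueField R →ₗ[R] E} (hf : InjHull.IsInjectiveHull f)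

include hf

theorem exists_functional {L : Type v} [AddCommGroup L] [Module R L]
    (htor : LocCoh.IsPowerTorsion (maximalIdeal R) L) {x : L} (hx : x ≠ 0) :
    ∃ ψ : L →ₗ[R] E, ψ x ≠ 0 := by
  obtain ⟨r, hr, hr0⟩ := InjHull18.exists_socle_smul hx (htor x)
  have hker : maximalIdeal R ≤ LinearMap.ker (LinearMap.toSpanSingleton R L (r • x)) := fun a ha => by
    rw [LinearMap.mem_ker, LinearMap.toSpanSingleton_apply]
    exact (Submodule.mem_torsionBySet_iff _ _).1 hr ⟨a, ha⟩
  let q : ResidueField R →ₗ[R] L := Submodule.liftQ _ _ hker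
  have hq : Function.Injective q := by
    rw [← LinearMap.ker_eq_bot]
    refine Submodule.ker_liftQ_eq_bot _ _ _ fun a ha => ?_
    rw [LinearMap.mem_ker, LinearMap.toSpanSingleton_apply] at ha
    by_contra hu
    exact hr0 ((IsUnit.smul_eq_zero ((notMem_maximalIdeal).mp hu)).mp ha)
  obtain ⟨ψ, hψ⟩ := (Module.Baer.of_injective hf.isInjective).extension_property q hq f
  refine ⟨ψ, fun h0 => ?_⟩
  have h1 := LinearMap.congr_fun hψ (Submodule.Quotient.mk (1 : R))
  have h2 : f (Submodule.Quotient.mk (1 : R)) = 0 := by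
    rw [← h1]
    show ψ (LinearMap.toSpanSingleton R L (r • x) 1) = 0
    rw [LinearMap.toSpanSingleton_apply, one_smul, map_smul, h0, smul_zero]
  have h3 := hf.injective (h2.trans (map_zero f).symm)
  exact (maximalIdeal.isMaximal R).ne_top
    ((Ideal.eq_top_iff_one _).2 ((Submodule.Quotient.mk_eq_zero _).1 h3))

theorem finite_dual [IsAdicComplete (maximalIdeal R) R] {L : Type v} [AddCommGroup L] [Module R L]
    (htor : LocCoh.IsPowerTorsion (maximalIdeal R) L)
    (hsoc : Module.Finite R ↥(LocCoh.torsionBy (maximalIdeal R) L)) :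
    Module.Finite R (L →ₗ[R] E) := by
  let m := maximalIdeal R
  haveI : Module.Finite (R ⧸ m) ↥(LocCoh.torsionBy m L) := Module.Finite.of_restrictScalars_finite R _ _
  letI : Field (R ⧸ m) := Ideal.Quotient.field m
  let b := Module.finBasis (R ⧸ m) ↥(LocCoh.torsionBy m L)
  let g₀ : ↥(LocCoh.torsionBy m L) →ₗ[R] (Fin (Module.finrank (R ⧸ m) ↥(LocCoh.torsionBy m L)) → E) :=
    LinearMap.pi fun i => f ∘ₗ (b.coord i).restrictScalars R
  have := hf.isInjective
  obtain ⟨g, hg⟩ := (Module.Baer.of_injective (inferInstance :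
    Module.Injective R (Fin (Module.finrank (R ⧸ m) ↥(LocCoh.torsionBy m L)) → E))).extension_property
    (Submodule.subtype _) (Submodule.subtype_injective _) g₀
  have hginj : Function.Injective g := by
    rw [← LinearMap.ker_eq_bot, Submodule.eq_bot_iff]
    intro x hx
    by_contra hx0
    obtain ⟨r, hr, hr0⟩ := InjHull18.exists_socle_smul hx0 (htor x)
    refine hr0 ?_
    have h1 : g₀ ⟨r • x, hr⟩ = 0 := by
      rw [← hg]
      show g (r • x) = 0
      rw [map_smul, LinearMap.mem_ker.1 hx, smul_zero]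
    have h2 : b.repr ⟨r • x, hr⟩ = 0 := Finsupp.ext fun i =>
      hf.injective ((congrFun h1 i).trans (map_zero f).symm)
    exact congrArg Subtype.val ((LinearEquiv.map_eq_zero_iff _).1 h2)
  refine Module.Finite.of_surjective (Fintype.linearCombination R fun i => LinearMap.proj i ∘ₗ g) fun ψ => ?_
  obtain ⟨φ, hφ⟩ := (Module.Baer.of_injective hf.isInjective).extension_property g hginj ψ
  choose c hc using fun i => InjHull18.exists_scalar_of_complete (m := maximalIdeal R) (f := f) hf
    (φ ∘ₗ LinearMap.single R (fun _ => E) i)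
  refine ⟨c, LinearMap.ext fun x => ?_⟩
  rw [← hφ, LinearMap.comp_apply]
  conv_rhs => rw [← Finset.univ_sum_single (g x), map_sum]
  rw [Fintype.linearCombination_apply, LinearMap.sum_apply]
  exact Finset.sum_congr rfl fun i _ => by
    rw [LinearMap.smul_apply]; exact (hc i (g x i)).symm

theorem chain_stabilizes [IsAdicComplete (maximalIdeal R) R] {P : Ideal R} [P.IsPrime]
    {L : Type v} [AddCommGroup L] [Module R L]
    (htor : LocCoh.IsPowerTorsion (maximalIdeal R) L)
    (hsoc : Module.Finite R ↥(LocCoh.torsionBy (maximalIdeal R) L))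
    (T : Submodule R L) (N : ℕ → Submodule R L) (hN : Monotone N) (hNT : ∀ i, N i ≤ T)
    (hP : ∀ a ∈ P, ∀ x ∈ T, a • x ∈ N 0) :
    ∃ i, ∃ a, a ∉ P ∧ ∀ y ∈ N (i + 1), a • y ∈ N i := by
  haveI := finite_dual hf htor hsoc
  -- functionals on `T` killing `N 0`
  let res : (L →ₗ[R] E) →ₗ[R] (T →ₗ[R] E) := LinearMap.lcomp R E T.subtype
  have hres : Function.Surjective res := fun ψ => by
    obtain ⟨φ, hφ⟩ := (Module.Baer.of_injective hf.isInjective).extension_property T.subtype
      T.subtype_injective ψ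
    exact ⟨φ, hφ⟩
  haveI : Module.Finite R (T →ₗ[R] E) := Module.Finite.of_surjective res hres
  let Z : ℕ → Submodule R (T →ₗ[R] E) := fun i =>
    LinearMap.ker (LinearMap.lcomp R E (Submodule.inclusion (hNT i)))
  have memZ : ∀ i ψ, ψ ∈ Z i ↔ ∀ y (hy : y ∈ N i), ψ ⟨y, hNT i hy⟩ = 0 := fun i ψ => by
    simp only [Z, LinearMap.mem_ker, LinearMap.ext_iff, LinearMap.lcomp_apply, LinearMap.zero_apply,
      Subtype.forall]
    rfl
  let D := Z 0
  haveI : Module.Finite R D := Module.Finite.of_fg (IsNoetherian.noetherian D)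
  obtain ⟨i, a, ha, hai⟩ := antitone_stabilizes (P := P) (D := D)
    (fun a ha ψ => Subtype.ext (LinearMap.ext fun y => by
      show a • (ψ : T →ₗ[R] E) y = 0
      rw [← map_smul]
      exact (memZ 0 _).mp ψ.2 _ (hP a ha y y.2)))
    (fun i => (Z i).comap D.subtype)
    (fun i j h => Submodule.comap_mono fun ψ hψ => (memZ i ψ).mpr fun y hy => (memZ j ψ).mp hψ y (hN h hy))
  refine ⟨i, a, ha, fun y hy => ?_⟩
  by_contra hay
  let Q := T ⧸ (N i).comap T.subtype
  have htorQ : LocCoh.IsPowerTorsion (maximalIdeal R) Q := fun q => by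
    obtain ⟨t, rfl⟩ := Submodule.Quotient.mk_surjective _ q
    obtain ⟨n, hn⟩ := htor t
    refine ⟨n, fun c hc => ?_⟩
    rw [← Submodule.Quotient.mk_smul, show c • t = 0 from Subtype.ext (hn c hc), Submodule.Quotient.mk_zero]
  let t : T := ⟨y, hNT _ hy⟩
  obtain ⟨χ, hχ⟩ := exists_functional hf htorQ (x := Submodule.Quotient.mk (a • t)) fun h => hay
    ((Submodule.Quotient.mk_eq_zero ((N i).comap T.subtype)).1 h)
  let ψ : T →ₗ[R] E := χ ∘ₗ Submodule.mkQ _
  have hψ : ψ ∈ Z i := (memZ i ψ).mpr fun z hz => by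
    show χ (Submodule.Quotient.mk _) = 0
    rw [show Submodule.Quotient.mk (p := (N i).comap T.subtype) (⟨z, hNT i hz⟩ : T) = 0 from
      (Submodule.Quotient.mk_eq_zero _).2 hz, map_zero]
  have hψ0 : ψ ∈ D := (memZ 0 ψ).mpr fun z hz => (memZ i ψ).mp hψ z (hN (Nat.zero_le i) hz)
  have h := (memZ (i + 1) _).mp (hai ⟨ψ, hψ0⟩ hψ) y hy
  apply hχ
  rw [show Submodule.Quotient.mk (p := (N i).comap T.subtype) (a • t) =
    a • Submodule.Quotient.mk t from rfl, map_smul]
  exact h

end Groth.Agent.FrobAlg54
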