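import Mathlib.FieldTheory.IsPerfectClosure
import Mathlib.RingTheory.RingHom.FaithfullyFlat
import Mathlib.RingTheory.Flat.EquationalCriterion
import Mathlib.RingTheory.IntegralClosure.IsIntegral.Basic
import Mathlib.RingTheory.Spectrum.Prime.Homeomorph

/-!
Maps of perfect closures.
-/

universe u

namespace Groth.Agent.FrobAlg54

variable {p : ℕ} [Fact p.Prime] {A B A' B' : Type u} [CommRing A] [CommRing B] [CommRing A']
  [CommRing B'] [CharP A p] [CharP B p] [CharP A' p] [CharP B' p] [PerfectRing A' p]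
  [PerfectRing B' p]
  (φ : A →+* B) (i : A →+* A') (j : B →+* B') [IsPerfectClosure i p] [IsPerfectClosure j p]
  (φ' : A' →+* B') (hφ : φ'.comp i = j.comp φ)

theorem exists_common_exp {L K : Type u} [CommRing L] [CommRing K] (h : K →+* L) [IsPRadical h p]
    {ι : Type*} (s : Finset ι) (x : ι → L) :
    ∃ N : ℕ, ∀ M, N ≤ M → ∀ k ∈ s, x k ^ p ^ M ∈ h.range := by
  choose n y hy using fun k => IsPRadical.pow_mem h p (x k)
  refine ⟨s.sup n, fun M hM k hk => ?_⟩
  obtain ⟨e, he⟩ := Nat.exists_eq_add_of_le ((Finset.le_sup hk).trans hM : n k ≤ M)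
  exact ⟨y k ^ p ^ e, by rw [map_pow, hy, ← pow_mul, ← pow_add, he]⟩

theorem exists_pow_eq_zero_of_map_eq_zero {L K : Type u} [CommRing L] [CommRing K] (h : K →+* L)
    [IsPRadical h p] {x : K} (hx : h x = 0) : ∃ n, x ^ p ^ n = 0 :=
  mem_pNilradical.1 (IsPRadical.ker_le h p (RingHom.mem_ker.2 hx))

theorem eq_of_pow_eq {R : Type u} [CommRing R] [CharP R p] [PerfectRing R p] {n : ℕ} {x y : R}
    (h : x ^ p ^ n = y ^ p ^ n) : x = y :=
  (iterateFrobeniusEquiv R p n).injective (by simpa [iterateFrobeniusEquiv_def, iterateFrobenius_def] using h)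

/-- The `p^n`-th root in a perfect ring. -/
noncomputable def root {R : Type u} [CommRing R] [CharP R p] [PerfectRing R p] (n : ℕ) : R →+* R :=
  (iterateFrobeniusEquiv R p n).symm

theorem root_pow {R : Type u} [CommRing R] [CharP R p] [PerfectRing R p] (n : ℕ) (x : R) :
    root (p := p) n x ^ p ^ n = x := by
  rw [← iterateFrobeniusEquiv_def]
  exact RingEquiv.apply_symm_apply _ _

include p hφ

theorem flat_map (hflat : φ.Flat) : φ'.Flat := by
  classical
  algebraize [φ, φ']
  have hflat : Module.Flat A B := hflat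
  show Module.Flat A' B'
  rw [Module.Flat.iff_forall_isTrivialRelation]
  intro l f x hx
  simp only [Algebra.smul_def, RingHom.algebraMap_toAlgebra] at hx
  obtain ⟨N₁, hN₁⟩ := exists_common_exp (p := p) i Finset.univ f
  obtain ⟨N₂, hN₂⟩ := exists_common_exp (p := p) j Finset.univ x
  choose a ha using fun k => hN₁ (max N₁ N₂) (le_max_left _ _) k (Finset.mem_univ _)
  choose b hb using fun k => hN₂ (max N₁ N₂) (le_max_right _ _) k (Finset.mem_univ _)
  have hz : j (∑ k, φ (a k) * b k) = 0 := by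
    have h1 := congrArg (iterateFrobenius B' p (max N₁ N₂)) hx
    rw [map_sum, map_zero] at h1
    rw [map_sum, ← h1]
    refine Finset.sum_congr rfl fun k _ => ?_
    rw [map_mul, map_mul, iterateFrobenius_def, iterateFrobenius_def, hb, ← RingHom.comp_apply,
      ← hφ, RingHom.comp_apply, ha, map_pow]
  obtain ⟨M, hM⟩ := exists_pow_eq_zero_of_map_eq_zero (p := p) j hz
  rw [sum_pow_char_pow] at hM
  have hrel : ∑ k, (a k ^ p ^ M) • (b k ^ p ^ M) = 0 := by
    rw [← hM]
    refine Finset.sum_congr rfl fun k _ => ?_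
    rw [Algebra.smul_def, RingHom.algebraMap_toAlgebra, map_pow, mul_pow]
  obtain ⟨κ, c, y, h1, h2⟩ := Module.Flat.isTrivialRelation_of_sum_smul_eq_zero hrel
  refine ⟨κ, fun k m => root (p := p) (max N₁ N₂ + M) (i (c k m)),
    fun m => root (p := p) (max N₁ N₂ + M) (j (y m)), fun k => ?_, fun m => ?_⟩
  · apply eq_of_pow_eq (p := p) (n := max N₁ N₂ + M)
    rw [sum_pow_char_pow, pow_add p (max N₁ N₂) M, pow_mul (x k), ← hb, ← map_pow, show b k ^ p ^ M = _ from h1 k, map_sum]
    refine Finset.sum_congr rfl fun m _ => ?_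
    rw [Algebra.smul_def, RingHom.algebraMap_toAlgebra, map_mul, ← RingHom.comp_apply, ← hφ,
      RingHom.comp_apply, Algebra.smul_def, RingHom.algebraMap_toAlgebra, mul_pow, ← map_pow φ']
    simp only [← pow_add, root_pow]
  · apply eq_of_pow_eq (p := p) (n := max N₁ N₂ + M)
    have h3 := congrArg i (h2 m)
    rw [map_sum, map_zero] at h3
    rw [sum_pow_char_pow, zero_pow (pow_ne_zero _ (Fact.out : p.Prime).ne_zero), ← h3]
    refine Finset.sum_congr rfl fun k _ => ?_
    rw [mul_pow, map_mul, map_pow, ha, ← pow_mul, ← pow_add, root_pow]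

theorem faithfullyFlat_map (hff : φ.FaithfullyFlat) : φ'.FaithfullyFlat := by
  rw [RingHom.FaithfullyFlat.iff_flat_and_comap_surjective] at hff ⊢
  refine ⟨flat_map φ i j φ' hφ hff.1, fun q => ?_⟩
  have hpow : ∀ {K L : Type u} [CommRing K] [CommRing L] (h : K →+* L) [IsPRadical h p] (x : L),
      ∃ n > 0, x ^ n ∈ h.range := fun h _ x => by
    obtain ⟨n, y, hy⟩ := IsPRadical.pow_mem h p x
    exact ⟨p ^ n, pow_pos (Fact.out : p.Prime).pos n, y, hy⟩
  have hi := PrimeSpectrum.isHomeomorph_comap i (hpow i)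
    ((IsPRadical.ker_le i p).trans pNilradical_le_nilradical)
  have hj := PrimeSpectrum.isHomeomorph_comap j (hpow j)
    ((IsPRadical.ker_le j p).trans pNilradical_le_nilradical)
  obtain ⟨Q, hQ⟩ := hff.2 (PrimeSpectrum.comap i q)
  obtain ⟨Q', rfl⟩ := hj.surjective Q
  refine ⟨Q', hi.injective ?_⟩
  rw [← hQ, ← PrimeSpectrum.comap_comp_apply, hφ, PrimeSpectrum.comap_comp_apply]

theorem isIntegral_map_iff : φ.IsIntegral ↔ φ'.IsIntegral := by
  classical
  constructor
  · intro h x
    obtain ⟨n, b, hb⟩ := IsPRadical.pow_mem j p x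
    algebraize [φ']
    refine IsIntegral.of_pow (pow_pos (Fact.out : p.Prime).pos n) ?_
    rw [← hb]
    obtain ⟨P, hP, hPb⟩ := h b
    refine ⟨P.map i, hP.map i, ?_⟩
    rw [Polynomial.eval₂_map, RingHom.algebraMap_toAlgebra, hφ, ← Polynomial.hom_eval₂, hPb,
      map_zero]
  · intro h b
    algebraize [φ]
    obtain ⟨P, hP, hPb⟩ := h (j b)
    obtain ⟨N, hN⟩ := exists_common_exp (p := p) i (Finset.range (P.natDegree + 1)) P.coeff
    have hN' : ∀ k, P.coeff k ^ p ^ N ∈ i.range := fun k => by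
      rcases Nat.lt_or_ge k (P.natDegree + 1) with hk | hk
      · exact hN N le_rfl k (Finset.mem_range.2 hk)
      · rw [Polynomial.coeff_eq_zero_of_natDegree_lt (by omega),
          zero_pow (pow_ne_zero _ (Fact.out : p.Prime).ne_zero)]
        exact zero_mem _
    have : Nontrivial A' := CharP.nontrivial_of_char_ne_one (Fact.out : p.Prime).ne_one
    obtain ⟨Q, hQ, -, hQm⟩ := Polynomial.lifts_and_degree_eq_and_monic
      (show P.map (iterateFrobenius A' p N) ∈ Polynomial.lifts i from
        (Polynomial.lifts_iff_coeff_lifts _).2 fun k => by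
          rw [Polynomial.coeff_map, iterateFrobenius_def]; exact hN' k)
      (hP.map _)
    have hz : j (Q.eval₂ φ (b ^ p ^ N)) = 0 := by
      rw [Polynomial.hom_eval₂, ← hφ, map_pow, ← Polynomial.eval₂_map, hQ,
        Polynomial.eval₂_map]
      have h1 := congrArg (iterateFrobenius B' p N) hPb
      rw [map_zero, Polynomial.hom_eval₂, iterateFrobenius_def] at h1
      rw [← h1]
      refine Polynomial.eval₂_congr (RingHom.ext fun a => ?_) rfl rfl
      simp [iterateFrobenius_def]
    obtain ⟨M, hM⟩ := exists_pow_eq_zero_of_map_eq_zero (p := p) j hz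
    refine IsIntegral.of_pow (pow_pos (Fact.out : p.Prime).pos N)
      ⟨Q ^ p ^ M, hQm.pow _, ?_⟩
    rw [Polynomial.eval₂_pow, RingHom.algebraMap_toAlgebra]
    exact hM

end Groth.Agent.FrobAlg54
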