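import Groth.Agent.FrobAlg53.RelFrobEtale
import Groth.Agent.FrobAlg54.PerfClos

/-!
Étale algebras over perfect rings are perfect; perfect closures of étale algebras.
-/

set_option autoImplicit false
universe u
open scoped TensorProduct

namespace Groth.Agent.FrobAlg54

variable (p : ℕ) [Fact p.Prime]

theorem perfectRing_of_etale (A T : Type u) [CommRing A] [CharP A p] [PerfectRing A p] [CommRing T]
    [CharP T p] [Algebra A T] [Algebra.Etale A T] : PerfectRing T p := by
  have hb := Groth.Agent.FrobAlg53.bijective_relFrob_of_etale p A T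
  let ρ : FrobAlg.Twist p A →ₐ[A] T :=
    { toRingHom := (algebraMap A T).comp
        (((frobeniusEquiv A p).symm : A →+* A).comp ((FrobAlg.toTwist p A).symm : FrobAlg.Twist p A →+* A))
      commutes' := fun a => by
        show algebraMap A T ((frobeniusEquiv A p).symm ((FrobAlg.toTwist p A).symm
          (algebraMap A (FrobAlg.Twist p A) a))) = algebraMap A T a
        rw [FrobAlg.algebraMap_twist, RingEquiv.symm_apply_apply, ← frobenius_def, frobeniusEquiv_symm_apply_frobenius] }
  let r : FrobAlg.BaseChange p A T →ₐ[A] T :=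
    Algebra.TensorProduct.lift (AlgHom.id A T) ρ (fun _ _ => Commute.all _ _)
  have hone : ∀ w : FrobAlg.BaseChange p A T, ∃ b : T, w = b ⊗ₜ[A] 1 := by
    intro w
    induction w using TensorProduct.induction_on with
    | zero => exact ⟨0, by rw [TensorProduct.zero_tmul]⟩
    | tmul b t =>
      refine ⟨(frobeniusEquiv A p).symm ((FrobAlg.toTwist p A).symm t) • b, ?_⟩
      rw [TensorProduct.smul_tmul]
      congr 1
      rw [Algebra.smul_def, FrobAlg.algebraMap_twist, mul_one, ← frobenius_def, frobenius_apply_frobeniusEquiv_symm,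
        RingEquiv.apply_symm_apply]
    | add x y hx hy =>
      obtain ⟨b, rfl⟩ := hx
      obtain ⟨c, rfl⟩ := hy
      exact ⟨b + c, (TensorProduct.add_tmul _ _ _).symm⟩
  have hF : ∀ b : T, FrobAlg.relFrob p A T (b ⊗ₜ[A] 1) = b ^ p := fun b => by
    simp [FrobAlg.relFrob, FrobAlg.frobHom, FrobAlg.inclHom, FrobAlg.toTarget]
    rfl
  refine ⟨⟨fun b c h => ?_, fun z => ?_⟩⟩
  · simp only [frobenius_def] at h
    have h1 := hb.1 ((hF b).trans (h.trans (hF c).symm))
    have h2 := congrArg r h1
    simpa [r] using h2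
  · obtain ⟨w, hw⟩ := hb.2 z
    obtain ⟨b, rfl⟩ := hone w
    exact ⟨b, by simpa [frobenius_def, hF] using hw⟩

theorem bijective_tensor_perfectClosure (A B A' B' : Type u) [CommRing A] [CommRing B] [CommRing A'] [CommRing B']
    [CharP A p] [CharP B p] [CharP A' p] [CharP B' p] [PerfectRing A' p] [PerfectRing B' p]
    [Algebra A B] [Algebra.Etale A B] [Algebra A A'] [Algebra B B'] [Algebra A B'] [IsScalarTower A B B']
    [IsPerfectClosure (algebraMap A A') p] [IsPerfectClosure (algebraMap B B') p]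
    (φ' : A' →ₐ[A] B') :
    Function.Bijective (Algebra.TensorProduct.lift φ' (IsScalarTower.toAlgHom A B B')
      (fun a b => Commute.all (φ' a) (IsScalarTower.toAlgHom A B B' b))) := by
  classical
  set ψ := Algebra.TensorProduct.lift φ' (IsScalarTower.toAlgHom A B B')
    (fun a b => Commute.all (φ' a) (IsScalarTower.toAlgHom A B B' b))
  have : Nontrivial B' := CharP.nontrivial_of_char_ne_one (Fact.out : p.Prime).ne_one
  have : Nontrivial (A' ⊗[A] B) := ψ.toRingHom.domain_nontrivial
  have : CharP (A' ⊗[A] B) p := by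
    refine (CharP.charP_iff_prime_eq_zero (Fact.out : p.Prime)).2 ?_
    rw [← map_natCast (algebraMap A' (A' ⊗[A] B)), CharP.cast_eq_zero, map_zero]
  have := perfectRing_of_etale p A' (A' ⊗[A] B)
  have hψ : ∀ b : B, ψ ((1 : A') ⊗ₜ[A] b) = algebraMap B B' b := fun b => by simp [ψ]
  have hpow : ∀ t : A' ⊗[A] B, ∃ n, ∃ b : B, t ^ p ^ n = (1 : A') ⊗ₜ[A] b := by
    intro t
    induction t using TensorProduct.induction_on with
    | zero => exact ⟨0, 0, by simp⟩
    | tmul a b =>
      obtain ⟨n, x, hx⟩ := IsPRadical.pow_mem (algebraMap A A') p a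
      refine ⟨n, x • b ^ p ^ n, ?_⟩
      rw [Algebra.TensorProduct.tmul_pow, ← hx, Algebra.algebraMap_eq_smul_one, TensorProduct.smul_tmul]
    | add x y hx hy =>
      obtain ⟨n, b, hb⟩ := hx
      obtain ⟨m, c, hc⟩ := hy
      refine ⟨n + m, b ^ p ^ m + c ^ p ^ n, ?_⟩
      rw [add_pow_char_pow, pow_add, pow_mul, hb, mul_comm, pow_mul, hc, Algebra.TensorProduct.tmul_pow,
        Algebra.TensorProduct.tmul_pow, one_pow, one_pow, TensorProduct.tmul_add]
  refine ⟨(injective_iff_map_eq_zero ψ).2 fun t ht => ?_, fun y => ?_⟩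
  · obtain ⟨n, b, hb⟩ := hpow t
    have h0 : algebraMap B B' b = 0 := by
      rw [← hψ, ← hb, map_pow, ht, zero_pow (pow_ne_zero _ (Fact.out : p.Prime).ne_zero)]
    obtain ⟨m, hm⟩ := exists_pow_eq_zero_of_map_eq_zero (p := p) (algebraMap B B') h0
    refine eq_of_pow_eq (p := p) (n := n + m) ?_
    rw [pow_add p, pow_mul, hb, Algebra.TensorProduct.tmul_pow, hm, TensorProduct.tmul_zero,
      zero_pow (mul_ne_zero (pow_ne_zero _ (Fact.out : p.Prime).ne_zero) (pow_ne_zero _ (Fact.out : p.Prime).ne_zero))]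
  · obtain ⟨n, b, hb⟩ := IsPRadical.pow_mem (algebraMap B B') p y
    refine ⟨root (p := p) n ((1 : A') ⊗ₜ[A] b), eq_of_pow_eq (p := p) (n := n) ?_⟩
    rw [← map_pow, root_pow, hψ, hb]

end Groth.Agent.FrobAlg54
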