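import Mathlib.RingTheory.Finiteness.Basic
import Mathlib.RingTheory.Localization.Basic
import Mathlib.Algebra.CharP.Frobenius
import Mathlib.RingTheory.Ideal.Quotient.Operations

/-!
Finiteness of the absolute Frobenius.
-/

universe u v

namespace Groth.Agent.FrobAlg54

theorem finite_iff_closure {A : Type u} {B : Type v} [CommRing A] [CommRing B] (f : A →+* B) :
    f.Finite ↔
      ∃ s : Finset B, ∀ b, b ∈ AddSubmonoid.closure {y : B | ∃ a, ∃ g ∈ s, y = f a * g} := by
  constructor
  · intro hf
    algebraize [f]
    obtain ⟨s, hs⟩ := (Module.Finite.fg_top : (⊤ : Submodule A B).FG)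
    refine ⟨s, fun b => ?_⟩
    have hb : b ∈ Submodule.span A (s : Set B) := by rw [hs]; trivial
    rw [Submodule.mem_span_finset] at hb
    obtain ⟨c, -, rfl⟩ := hb
    refine sum_mem fun g hg => AddSubmonoid.subset_closure ⟨c g, g, hg, ?_⟩
    rw [Algebra.smul_def]
    rfl
  · rintro ⟨s, hs⟩
    algebraize [f]
    refine ⟨⟨s, eq_top_iff.2 fun b _ => ?_⟩⟩
    have : AddSubmonoid.closure {y : B | ∃ a, ∃ g ∈ s, y = f a * g} ≤
        (Submodule.span A (s : Set B)).toAddSubmonoid := by
      rw [AddSubmonoid.closure_le]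
      rintro y ⟨a, g, hg, rfl⟩
      exact Submodule.smul_mem _ a (Submodule.subset_span hg)
    exact this (hs b)

variable (p : ℕ) [Fact p.Prime]

theorem finite_frobenius_quotient {A : Type u} [CommRing A] [CharP A p]
    (hF : (frobenius A p).Finite) (I : Ideal A) [CharP (A ⧸ I) p] :
    (frobenius (A ⧸ I) p).Finite := by
  refine RingHom.Finite.of_comp_finite (f := Ideal.Quotient.mk I) ?_
  rw [← RingHom.frobenius_comm]
  exact (RingHom.Finite.of_surjective _ Ideal.Quotient.mk_surjective).comp hF

theorem finite_frobenius_localization {A : Type u} [CommRing A] [CharP A p]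
    (hF : (frobenius A p).Finite) (S : Submonoid A) (B : Type v) [CommRing B] [Algebra A B]
    [IsLocalization S B] [CharP B p] : (frobenius B p).Finite := by
  classical
  obtain ⟨s, hs⟩ := (finite_iff_closure _).1 hF
  refine (finite_iff_closure _).2 ⟨s.image (algebraMap A B), fun b => ?_⟩
  obtain ⟨a, m, rfl⟩ := IsLocalization.exists_mk'_eq S b
  have hu : IsUnit (algebraMap A B m) := IsLocalization.map_units B m
  have key : IsLocalization.mk' B a m =
      (IsLocalization.mk' B 1 m) ^ p * algebraMap A B (a * (m : A) ^ (p - 1)) := by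
    rw [← (hu.pow p).mul_right_inj, ← mul_assoc, ← mul_pow,
      mul_comm (algebraMap A B m) (IsLocalization.mk' B 1 m), IsLocalization.mk'_spec, map_one,
      one_pow, one_mul, map_mul, map_pow]
    obtain ⟨n, hn⟩ := Nat.exists_eq_add_one_of_ne_zero (Fact.out : p.Prime).ne_zero
    rw [hn, pow_succ, Nat.add_sub_cancel, mul_assoc,
      mul_comm (algebraMap A B m) (IsLocalization.mk' B a m), IsLocalization.mk'_spec, mul_comm]
  rw [key]
  generalize a * (m : A) ^ (p - 1) = x
  generalize IsLocalization.mk' B 1 m = t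
  induction hs x using AddSubmonoid.closure_induction with
  | mem y hy =>
    obtain ⟨c, g, hg, rfl⟩ := hy
    refine AddSubmonoid.subset_closure
      ⟨t * algebraMap A B c, _, Finset.mem_image_of_mem _ hg, ?_⟩
    rw [frobenius_def, frobenius_def, map_mul, map_pow, mul_pow, mul_assoc]
  | zero => rw [map_zero, mul_zero]; exact zero_mem _
  | add y z _ _ hy hz => rw [map_add, mul_add]; exact add_mem hy hz

end Groth.Agent.FrobAlg54
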