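import Mathlib

set_option autoImplicit false
universe u v

namespace Groth.Agent.FrobAlg54

section

variable {R : Type u} [Ring R] {σ : R →+* R} [RingHomSurjective σ]
  {M : Type v} [AddCommGroup M] [Module R M] (φ : M →ₛₗ[σ] M)

/-- kernel of the n-th iterate of a semilinear endomorphism -/
def itKer : ℕ → Submodule R M
  | 0 => ⊥
  | n + 1 => (itKer n).comap φ

/-- image of the n-th iterate of a semilinear endomorphism -/
def itRange : ℕ → Submodule R M
  | 0 => ⊤
  | n + 1 => (itRange n).map φ

theorem mem_itKer (n : ℕ) (x : M) : x ∈ itKer φ n ↔ (⇑φ)^[n] x = 0 := by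
  induction n generalizing x with
  | zero => simp [itKer]
  | succ n ih => simp [itKer, ih, Function.iterate_succ_apply]

theorem mem_itRange (n : ℕ) (x : M) : x ∈ itRange φ n ↔ ∃ y, (⇑φ)^[n] y = x := by
  induction n generalizing x with
  | zero => simp [itRange]
  | succ n ih =>
    simp only [itRange, Submodule.mem_map, ih]
    constructor
    · rintro ⟨z, ⟨y, rfl⟩, rfl⟩
      exact ⟨y, Function.iterate_succ_apply' φ n y⟩
    · rintro ⟨y, rfl⟩
      exact ⟨_, ⟨y, rfl⟩, (Function.iterate_succ_apply' φ n y).symm⟩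

theorem iterate_sub' (n : ℕ) (x y : M) : (⇑φ)^[n] (x - y) = (⇑φ)^[n] x - (⇑φ)^[n] y := by
  induction n generalizing x y with
  | zero => simp
  | succ n ih => simp [Function.iterate_succ_apply, map_sub, ih]

theorem itKer_mono : Monotone (itKer φ) := by
  refine monotone_nat_of_le_succ fun n x hx => ?_
  rw [mem_itKer] at hx ⊢
  rw [Function.iterate_succ_apply', hx, map_zero]

theorem itRange_anti : Antitone (itRange φ) := by
  refine antitone_nat_of_succ_le fun n x hx => ?_
  rw [mem_itRange] at hx ⊢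
  obtain ⟨y, rfl⟩ := hx
  exact ⟨φ y, (Function.iterate_succ_apply φ n y).symm⟩

/-- Fitting decomposition for a semilinear endomorphism -/
theorem fitting [IsNoetherian R M] [IsArtinian R M] :
    ∃ Ms Mn : Submodule R M, IsCompl Ms Mn ∧
      Set.MapsTo φ Ms Ms ∧ Set.MapsTo φ Mn Mn ∧ Set.BijOn φ Ms Ms ∧
      ∃ r : ℕ, ∀ x ∈ Mn, (⇑φ)^[r] x = 0 := by
  obtain ⟨a, ha⟩ := monotone_stabilizes_iff_noetherian.mpr ‹IsNoetherian R M›
    ⟨itKer φ, itKer_mono φ⟩
  obtain ⟨b, hb⟩ := IsArtinian.monotone_stabilizes (R := R) (M := M)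
    ⟨fun n => OrderDual.toDual (itRange φ n), fun _ _ h => itRange_anti φ h⟩
  have hK : ∀ m, a ≤ m → itKer φ m = itKer φ a := fun m hm => (ha m hm).symm
  have hI : ∀ m, b ≤ m → itRange φ m = itRange φ b := fun m hm =>
    (OrderDual.toDual.injective (hb m hm)).symm
  obtain ⟨r, har, hbr⟩ : ∃ r, a ≤ r ∧ b ≤ r := ⟨max a b, le_max_left _ _, le_max_right _ _⟩
  have hK' : ∀ m, r ≤ m → itKer φ m = itKer φ r := fun m hm => by
    rw [hK m (har.trans hm), hK r har]
  have hI' : ∀ m, r ≤ m → itRange φ m = itRange φ r := fun m hm => by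
    rw [hI m (hbr.trans hm), hI r hbr]
  have hcompl : IsCompl (itRange φ r) (itKer φ r) := by
    constructor
    · rw [Submodule.disjoint_def]
      intro x hx hx'
      rw [mem_itRange] at hx
      obtain ⟨y, rfl⟩ := hx
      have : y ∈ itKer φ (r + r) := by
        rw [mem_itKer, Function.iterate_add_apply]; exact (mem_itKer φ r _).1 hx'
      rw [hK' (r + r) (by omega), mem_itKer] at this
      exact this
    · rw [codisjoint_iff, eq_top_iff]
      intro x _
      have : (⇑φ)^[r] x ∈ itRange φ (r + r) := by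
        rw [hI' (r + r) (by omega), mem_itRange]; exact ⟨x, rfl⟩
      rw [mem_itRange] at this
      obtain ⟨z, hz⟩ := this
      rw [Function.iterate_add_apply] at hz
      refine Submodule.mem_sup.2 ⟨(⇑φ)^[r] z, (mem_itRange φ r _).2 ⟨z, rfl⟩,
        x - (⇑φ)^[r] z, (mem_itKer φ r _).2 ?_, by abel⟩
      rw [iterate_sub', hz, sub_self]
  have hs : Set.MapsTo φ (itRange φ r) (itRange φ r) := fun x hx => by
    rw [SetLike.mem_coe, ← hI' (r + 1) (by omega)]
    exact Submodule.mem_map_of_mem hx
  refine ⟨itRange φ r, itKer φ r, hcompl, hs, fun x hx => ?_, ⟨hs, ?_, ?_⟩, r,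
    fun x hx => (mem_itKer φ r x).1 hx⟩
  · rw [SetLike.mem_coe, mem_itKer] at hx ⊢
    rw [← Function.iterate_succ_apply, Function.iterate_succ_apply', hx, map_zero]
  · intro x hx y hy hxy
    have h1 : x - y ∈ itKer φ (r + 1) := by
      rw [mem_itKer, Function.iterate_succ_apply, map_sub, hxy, sub_self]
      exact iterate_map_zero φ r
    rw [hK' (r + 1) (by omega)] at h1
    exact sub_eq_zero.1 ((Submodule.disjoint_def.1 hcompl.disjoint) _ (sub_mem hx hy) h1)
  · intro x hx
    rw [SetLike.mem_coe, ← hI' (r + 1) (by omega)] at hx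
    obtain ⟨y, hy, rfl⟩ := hx
    exact ⟨y, hy, rfl⟩

end

/-- finitely generated torsion modules over a PID are Artinian -/
theorem isArtinian_of_isTorsion {R : Type u} [CommRing R] [IsDomain R] [IsPrincipalIdealRing R]
    {M : Type v} [AddCommGroup M] [Module R M] [Module.Finite R M]
    (hM : Module.IsTorsion R M) : IsArtinian R M := by
  obtain ⟨a, ha, ha0⟩ := Submodule.annihilator_top_inter_nonZeroDivisors hM
  set I : Ideal R := Ideal.span {a} with hIdef
  have haI : a ∈ I := Ideal.mem_span_singleton_self a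
  have hne : I ≠ ⊥ := fun h => nonZeroDivisors.ne_zero ha0 (by simpa [h] using haI)
  have htor : Module.IsTorsionBySet R M I := by
    intro x ⟨c, hc⟩
    rw [SetLike.mem_coe, Ideal.mem_span_singleton] at hc
    obtain ⟨d, rfl⟩ := hc
    change (a * d) • x = 0
    rw [mul_comm, mul_smul, (Submodule.mem_annihilator.1 ha) x trivial, smul_zero]
  have : Ring.KrullDimLE 0 (R ⧸ I) := Ring.krullDimLE_zero_iff.mpr fun J hJ => by
    have : (J.comap (Ideal.Quotient.mk I)).IsPrime := Ideal.IsPrime.comap _
    have hle : I ≤ J.comap (Ideal.Quotient.mk I) := fun x hx => by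
      simp [Ideal.mem_comap, Ideal.Quotient.eq_zero_iff_mem.2 hx]
    have hmax : (J.comap (Ideal.Quotient.mk I)).IsMaximal :=
      IsPrime.to_maximal_ideal (fun h => hne (eq_bot_iff.2 (h ▸ hle)))
    have hs : Function.Surjective (Ideal.Quotient.mk I) := Ideal.Quotient.mk_surjective
    rcases Ideal.map_eq_top_or_isMaximal_of_surjective (Ideal.Quotient.mk I) hs hmax with h | h
    · rw [Ideal.map_comap_of_surjective _ hs] at h
      exact absurd h hJ.ne_top
    · rwa [Ideal.map_comap_of_surjective _ hs] at h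
  have : IsArtinianRing (R ⧸ I) := isArtinianRing_iff_krullDimLE_zero.2 this
  let := htor.module
  have : IsScalarTower R (R ⧸ I) M := ⟨fun r x m => by
    obtain ⟨x, rfl⟩ := Ideal.Quotient.mk_surjective x
    rw [← Ideal.Quotient.algebraMap_eq, Algebra.smul_def, ← map_mul]
    exact mul_smul r x m⟩
  have : Module.Finite (R ⧸ I) M := Module.Finite.of_restrictScalars_finite R (R ⧸ I) M
  exact isArtinian_of_surjective_algebraMap (R := R ⧸ I) Ideal.Quotient.mk_surjective

end Groth.Agent.FrobAlg54
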