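import Groth.Agent.FrobAlg54.ArtinDual
import Groth.Agent.Cohen12.Completion
import Mathlib.RingTheory.Ideal.MinimalPrime.Noetherian
import Mathlib.Algebra.CharP.Lemmas

/-!
Locally nilpotent Frobenius actions on cofinite modules are nilpotent.
-/

set_option autoImplicit false
universe u v

namespace Groth.Agent.FrobAlg54

open IsLocalRing

theorem nilpotent_of_complete {R : Type u} [CommRing R] [IsLocalRing R] [IsNoetherianRing R]
    [IsAdicComplete (maximalIdeal R) R] {M : Type v} [AddCommGroup M] [Module R M]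
    (htor : LocCoh.IsPowerTorsion (maximalIdeal R) M)
    (hsoc : Module.Finite R ↥(LocCoh.torsionBy (maximalIdeal R) M))
    {q : ℕ} (hq : 2 ≤ q) (φ : M →+ M) (hsl : ∀ (r : R) (x : M), φ (r • x) = r ^ q • φ x)
    (hloc : ∀ x : M, ∃ n : ℕ, (⇑φ)^[n] x = 0) : ∃ n : ℕ, ∀ x : M, (⇑φ)^[n] x = 0 := by
  classical
  have hit : ∀ (e : ℕ) (r : R) (x : M), (⇑φ)^[e] (r • x) = r ^ q ^ e • (⇑φ)^[e] x := by
    intro e
    induction e with
    | zero => intro r x; simp
    | succ e ih =>
      intro r x
      rw [Function.iterate_succ_apply, hsl, ih, ← pow_mul, ← pow_succ', ← Function.iterate_succ_apply]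
  let K : ℕ → Submodule R M := fun e =>
    { carrier := {x | (⇑φ)^[e] x = 0}
      add_mem' := fun {a b} ha hb => by
        simp only [Set.mem_setOf_eq] at *
        rw [iterate_map_add, ha, hb, add_zero]
      zero_mem' := iterate_map_zero φ e
      smul_mem' := fun r x hx => by
        simp only [Set.mem_setOf_eq] at *
        rw [hit, hx, smul_zero] }
  have memK : ∀ {e x}, x ∈ K e ↔ (⇑φ)^[e] x = 0 := Iff.rfl
  have memK' : ∀ {e x}, x ∈ K (e + 1) ↔ φ x ∈ K e := fun {e x} => by
    rw [memK, memK, Function.iterate_succ_apply]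
  have hmono : Monotone K := monotone_nat_of_le_succ fun e x hx => by
    rw [memK] at hx ⊢
    rw [Function.iterate_succ_apply', hx, map_zero]
  let J : ℕ → Ideal R := fun e =>
    { carrier := {a | ∀ x ∈ K (e + 1), a • x ∈ K e}
      add_mem' := fun {a b} ha hb x hx => by rw [add_smul]; exact add_mem (ha x hx) (hb x hx)
      zero_mem' := fun x _ => by rw [zero_smul]; exact zero_mem _
      smul_mem' := fun c a ha x hx => by rw [smul_eq_mul, mul_smul]; exact Submodule.smul_mem _ _ (ha x hx) }
  have hJmono : Monotone J := monotone_nat_of_le_succ fun e a ha x hx => by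
    rw [memK', hsl]
    obtain ⟨k, hk⟩ : ∃ k, q = k + 1 := ⟨q - 1, by omega⟩
    rw [hk, pow_succ, mul_smul]
    exact Submodule.smul_mem _ _ (ha _ (memK'.mp hx))
  obtain ⟨e0, he0⟩ := monotone_stabilizes_iff_noetherian.mpr (inferInstance : IsNoetherian R R) ⟨J, hJmono⟩
  have hJ : ∀ e, e0 ≤ e → J e = J e0 := fun e h => (he0 e h).symm
  obtain ⟨k, hk⟩ : ∃ k, q = k + 2 := ⟨q - 2, by omega⟩
  have hrad : (J e0).IsRadical := by
    refine (Ideal.isRadical_iff_pow_one_lt 2 one_lt_two).mpr fun a ha => ?_
    rw [← hJ (e0 + 1) (Nat.le_succ _)]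
    intro x hx
    rw [memK', hsl, hk, pow_add, mul_smul]
    exact Submodule.smul_mem _ _ (ha _ (memK'.mp hx))
  by_cases htop : J e0 = ⊤
  · refine ⟨e0, fun x => ?_⟩
    obtain ⟨n, hn⟩ := hloc x
    have h : ∀ j, K (e0 + j) ≤ K e0 := by
      intro j
      induction j with
      | zero => exact le_rfl
      | succ j ih =>
        intro y hy
        refine ih ?_
        have h1 : (1 : R) ∈ J (e0 + j) := by rw [hJ _ (Nat.le_add_right _ _), htop]; trivial
        simpa using h1 y hy
    exact memK.mp (h n (hmono (Nat.le_add_left n e0) (memK.mpr hn)))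
  obtain ⟨P, hP⟩ := Ideal.nonempty_minimalPrimes htop
  have hPp : P.IsPrime := hP.1.1
  have hfin := Ideal.finite_minimalPrimes_of_isNoetherianRing R (J e0)
  have hsep : ∀ Q ∈ hfin.toFinset.erase P, ∃ b ∈ Q, b ∉ P := fun Q hQ => by
    obtain ⟨hne, hQ'⟩ := Finset.mem_erase.mp hQ
    have hQm := hfin.mem_toFinset.mp hQ'
    by_contra hcon
    push Not at hcon
    exact hne (le_antisymm hcon (hP.2 hQm.1 hcon))
  choose b hb hbP using hsep
  set B := ∏ Q ∈ (hfin.toFinset.erase P).attach, b Q.1 Q.2 with hB
  have hBP : B ∉ P := fun h => by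
    obtain ⟨Q, -, hQ⟩ := (Ideal.IsPrime.prod_mem_iff).mp h
    exact hbP _ _ hQ
  have hPB : ∀ a ∈ P, a * B ∈ J e0 := fun a ha => by
    rw [← hrad.radical, ← Ideal.sInf_minimalPrimes, Ideal.mem_sInf]
    intro Q hQ
    by_cases hQP : Q = P
    · subst hQP; exact Ideal.mul_mem_right _ _ ha
    · refine Ideal.mul_mem_left _ _ ?_
      have hQ' : Q ∈ hfin.toFinset.erase P := Finset.mem_erase.mpr ⟨hQP, hfin.mem_toFinset.mpr hQ⟩
      rw [hB, ← Finset.mul_prod_erase _ _ (Finset.mem_attach _ ⟨Q, hQ'⟩)]
      exact Ideal.mul_mem_right _ _ (hb Q hQ')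
  have hsq : ∀ a ∈ J e0, ∀ j, ∀ x ∈ K (e0 + j), a • x ∈ K (e0 + 1) ∧ a ^ 2 • x ∈ K e0 := by
    intro a ha j
    induction j with
    | zero => exact fun x hx => ⟨Submodule.smul_mem _ _ (hmono (Nat.le_succ e0) hx), Submodule.smul_mem _ _ hx⟩
    | succ j ih =>
      intro x hx
      have h2 : a • x ∈ K (e0 + 1) := by
        rw [memK', hsl, hk, pow_add, mul_smul]
        exact Submodule.smul_mem _ _ (ih _ (memK'.mp hx)).2
      exact ⟨h2, by rw [pow_two, mul_smul]; exact ha _ h2⟩
  -- a prime quotient of the whole situation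
  let T : Submodule R M := K (e0 + 1) ⊔ Submodule.map (LinearMap.lsmul R M B) ⊤
  let N : ℕ → Submodule R M := fun i => K (e0 + 1 + i) ⊓ T
  obtain ⟨E, _, _, f, hf⟩ := InjHull18.exists_hull R (ResidueField R)
  obtain ⟨i, a, ha, hai⟩ := chain_stabilizes hf htor hsoc (P := P) T N
    (fun i j h => inf_le_inf_right _ (hmono (by omega))) (fun i => inf_le_right) (fun a ha x hx => by
      refine ⟨?_, Submodule.smul_mem _ _ hx⟩
      obtain ⟨u, hu, v, ⟨w, -, rfl⟩, rfl⟩ := Submodule.mem_sup.mp hx
      rw [smul_add]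
      refine add_mem (Submodule.smul_mem _ _ hu) ?_
      rw [LinearMap.lsmul_apply, ← mul_smul]
      obtain ⟨n, hn⟩ := hloc w
      exact (hsq _ (hPB a ha) n w (hmono (Nat.le_add_left n e0) (memK.mpr hn))).1)
  exfalso
  have h : a * B ∈ J e0 := by
    rw [← hJ (e0 + 1 + i) (by omega)]
    intro x hx
    rw [mul_smul]
    refine (hai (B • x) ⟨Submodule.smul_mem _ _ (?_ : x ∈ K (e0 + 1 + (i + 1))), ?_⟩).1
    · exact hx
    · exact Submodule.mem_sup_right ⟨x, trivial, rfl⟩
  have hmem : a * B ∈ P := hP.1.2 h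
  rcases hPp.mem_or_mem hmem with h' | h'
  exacts [ha h', hBP h']

theorem nilpotent_of_cofinite {A : Type u} [CommRing A] [IsLocalRing A] [IsNoetherianRing A]
    {M : Type v} [AddCommGroup M] [Module A M]
    (htor : LocCoh.IsPowerTorsion (maximalIdeal A) M)
    (hsoc : Module.Finite A ↥(LocCoh.torsionBy (maximalIdeal A) M))
    {q : ℕ} (hq : 2 ≤ q) (φ : M →+ M) (hsl : ∀ (r : A) (x : M), φ (r • x) = r ^ q • φ x)
    (hloc : ∀ x : M, ∃ n : ℕ, (⇑φ)^[n] x = 0) : ∃ n : ℕ, ∀ x : M, (⇑φ)^[n] x = 0 := by
  classical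
  let R := AdicCompletion (maximalIdeal A) A
  haveI : IsNoetherianRing R := Cohen12.isNoetherianRing_completion A
  haveI : IsAdicComplete (maximalIdeal R) R := Cohen12.isAdicComplete_completion A
  choose N hN using htor
  choose c hc using fun n (r : R) => Cohen12.exists_sub_mem_pow A n r
  let act : R → M → M := fun r x => c (N x) r • x
  have key : ∀ (r : R) (x : M) (n : ℕ) (a : A), (∀ s ∈ maximalIdeal A ^ n, s • x = 0) →
      r - algebraMap A R a ∈ maximalIdeal R ^ n → act r x = a • x := by
    intro r x n a hn ha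
    show c (N x) r • x = a • x
    rw [← sub_eq_zero, ← sub_smul]
    rcases le_total (N x) n with hle | hle
    · refine hN x _ ((Cohen12.algebraMap_mem_pow_iff A _ _).mp ?_)
      rw [map_sub, show algebraMap A R (c (N x) r) - algebraMap A R a =
        (r - algebraMap A R a) - (r - algebraMap A R (c (N x) r)) by ring]
      exact sub_mem (Ideal.pow_le_pow_right hle ha) (hc _ _)
    · refine hn _ ((Cohen12.algebraMap_mem_pow_iff A _ _).mp ?_)
      rw [map_sub, show algebraMap A R (c (N x) r) - algebraMap A R a =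
        (r - algebraMap A R a) - (r - algebraMap A R (c (N x) r)) by ring]
      exact sub_mem ha (Ideal.pow_le_pow_right hle (hc _ _))
  have keyA : ∀ (a : A) (x : M), act (algebraMap A R a) x = a • x := fun a x =>
    key _ x (N x) a (hN x) (by simp)
  letI instS : SMul R M := ⟨act⟩
  letI instM : Module R M :=
    { smul := act
      one_smul := fun x => by
        show act 1 x = x
        rw [← map_one (algebraMap A R), keyA, one_smul]
      mul_smul := fun r s x => by
        show act (r * s) x = act r (act s x)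
        have hs : act s x = c (N x) s • x := rfl
        rw [key (r * s) x (N x) (c (N x) r * c (N x) s) (hN x) (by
            rw [map_mul, show r * s - algebraMap A R (c (N x) r) * algebraMap A R (c (N x) s) =
              (r - algebraMap A R (c (N x) r)) * s +
                algebraMap A R (c (N x) r) * (s - algebraMap A R (c (N x) s)) by ring]
            exact add_mem (Ideal.mul_mem_right _ _ (hc _ _)) (Ideal.mul_mem_left _ _ (hc _ _))), hs,
          key r (c (N x) s • x) (N x) (c (N x) r) (fun t ht => by rw [smul_comm, hN x t ht, smul_zero]) (hc _ _),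
          mul_smul]
      smul_zero := fun r => by show c (N 0) r • (0 : M) = 0; exact smul_zero _
      smul_add := fun r x y => by
        show act r (x + y) = act r x + act r y
        have h1 : ∀ t ∈ maximalIdeal A ^ (max (N x) (N y)), t • x = 0 := fun t ht =>
          hN x t (Ideal.pow_le_pow_right (le_max_left _ _) ht)
        have h2 : ∀ t ∈ maximalIdeal A ^ (max (N x) (N y)), t • y = 0 := fun t ht =>
          hN y t (Ideal.pow_le_pow_right (le_max_right _ _) ht)
        rw [key r (x + y) _ _ (fun t ht => by rw [smul_add, h1 t ht, h2 t ht, add_zero]) (hc _ r),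
          key r x _ _ h1 (hc _ r), key r y _ _ h2 (hc _ r), smul_add]
      add_smul := fun r s x => by
        show act (r + s) x = act r x + act s x
        rw [key (r + s) x (N x) (c (N x) r + c (N x) s) (hN x) (by
          rw [map_add, add_sub_add_comm]
          exact add_mem (hc _ _) (hc _ _)), add_smul]
      zero_smul := fun x => by
        show act 0 x = 0
        rw [← map_zero (algebraMap A R), keyA, zero_smul] }
  haveI : IsScalarTower A R M := ⟨fun a r x => by
    show act (a • r) x = a • act r x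
    rw [key (a • r) x (N x) (a * c (N x) r) (hN x) (by
      rw [Algebra.smul_def, map_mul, ← mul_sub]
      exact Ideal.mul_mem_left _ _ (hc _ _)), mul_smul]⟩
  have htorR : LocCoh.IsPowerTorsion (maximalIdeal R) M := fun x => ⟨N x, fun r hr => by
    show act r x = 0
    rw [key r x (N x) 0 (hN x) (by rwa [map_zero, sub_zero]), zero_smul]⟩
  have hsocR : Module.Finite R ↥(LocCoh.torsionBy (maximalIdeal R) M) := by
    have hle : (LocCoh.torsionBy (maximalIdeal R) M).restrictScalars A ≤ LocCoh.torsionBy (maximalIdeal A) M := by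
      intro x hx
      refine (Submodule.mem_torsionBySet_iff _ _).2 fun t => ?_
      rw [← algebraMap_smul R]
      exact (Submodule.mem_torsionBySet_iff _ _).1 hx ⟨_, by
        simpa using (Cohen12.algebraMap_mem_pow_iff A 1 t.1).mpr (by simpa using t.2)⟩
    haveI := hsoc
    haveI : Module.Finite A ↥((LocCoh.torsionBy (maximalIdeal R) M).restrictScalars A) :=
      Module.Finite.of_injective (Submodule.inclusion hle) (Submodule.inclusion_injective hle)
    haveI : Module.Finite A ↥(LocCoh.torsionBy (maximalIdeal R) M) := this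
    exact Module.Finite.of_restrictScalars_finite A R _
  refine nilpotent_of_complete htorR hsocR hq φ (fun r x => ?_) hloc
  show φ (act r x) = act (r ^ q) (φ x)
  have h1 : ∀ t ∈ maximalIdeal A ^ (max (N x) (N (φ x))), t • x = 0 := fun t ht =>
    hN x t (Ideal.pow_le_pow_right (le_max_left _ _) ht)
  have h2 : ∀ t ∈ maximalIdeal A ^ (max (N x) (N (φ x))), t • φ x = 0 := fun t ht =>
    hN _ t (Ideal.pow_le_pow_right (le_max_right _ _) ht)
  rw [key r x _ _ h1 (hc _ r), hsl,
    key (r ^ q) (φ x) _ (c _ r ^ q) h2 (by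
      rw [map_pow]
      obtain ⟨d, hd⟩ := sub_dvd_pow_sub_pow r (algebraMap A R (c (max (N x) (N (φ x))) r)) q
      rw [hd]
      exact Ideal.mul_mem_right _ _ (hc _ _))]

end Groth.Agent.FrobAlg54
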