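import Mathlib

set_option autoImplicit false
universe u w

open MvPolynomial

namespace Groth.Agent.FrobAlg54

variable (p : ℕ) [Fact p.Prime] {R : Type u} [CommRing R] [CharP R p] {m : ℕ} {σ : Type w}

theorem coeff_det_monomial (hm : 0 < m) (r : Fin m → (Fin m ⊕ σ) →₀ ℕ) (c : Fin m → R)
    (T : (Fin m ⊕ σ) →₀ ℕ) (hT : ∀ j, T (Sum.inl j) = p - 1) :
    MvPolynomial.coeff T (Matrix.of fun i j : Fin m =>
      MvPolynomial.pderiv (Sum.inl j) (MvPolynomial.monomial (r i) (c i))).det = 0 := by
  classical
  set S : (Fin m ⊕ σ) →₀ ℕ := ∑ i : Fin m, Finsupp.single (Sum.inl i) 1 with hS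
  set N : Matrix (Fin m) (Fin m) R := Matrix.of fun i j => (r i (Sum.inl j) : R) with hN
  have hterm : ∀ e : Equiv.Perm (Fin m),
      MvPolynomial.coeff T (∏ i, pderiv (Sum.inl i) (monomial (r (e i)) (c (e i)))) =
        if T + S = ∑ i, r i then (∏ i, c i) * ∏ i, N (e i) i else 0 := by
    intro e
    have hprod : ∏ i, pderiv (Sum.inl i) (monomial (r (e i)) (c (e i))) =
        monomial (∑ i, (r (e i) - Finsupp.single (Sum.inl i) 1)) (∏ i, (c (e i) * N (e i) i)) := by
      rw [monomial_sum_index, map_prod, ← Finset.prod_mul_distrib]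
      exact Finset.prod_congr rfl fun i _ => by rw [pderiv_monomial, C_mul_monomial, mul_one]; rfl
    rw [hprod, coeff_monomial, Finset.prod_mul_distrib, Equiv.prod_comp e c]
    by_cases hall : ∀ i, r (e i) (Sum.inl i) ≠ 0
    · have hsum : (∑ i, (r (e i) - Finsupp.single (Sum.inl i) 1)) + S = ∑ i, r i := by
        rw [hS, ← Finset.sum_add_distrib, ← Equiv.sum_comp e r]
        refine Finset.sum_congr rfl fun i _ => tsub_add_cancel_of_le ?_
        rw [Finsupp.single_le_iff]
        exact Nat.one_le_iff_ne_zero.2 (hall i)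
      refine if_congr ⟨fun h => by rw [← h]; exact hsum, fun h => ?_⟩ rfl rfl
      exact add_right_cancel (hsum.trans h.symm)
    · push Not at hall
      obtain ⟨i, hi⟩ := hall
      have h0 : ∏ i, N (e i) i = 0 := Finset.prod_eq_zero (Finset.mem_univ i) (by simp [hN, hi])
      simp [h0]
  rw [Matrix.det_apply]
  simp only [MvPolynomial.coeff_sum, Matrix.of_apply, Units.smul_def, zsmul_eq_mul,
    ← map_intCast (MvPolynomial.C : R →+* MvPolynomial (Fin m ⊕ σ) R), MvPolynomial.coeff_C_mul, hterm]
  split_ifs with hsum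
  · have hdet : N.det = 0 := by
      have hrow : (∑ i, (1 : R) • N i) = 0 := by
        funext j
        rw [Finset.sum_apply]
        simp only [one_smul, hN, Matrix.of_apply, Pi.zero_apply]
        rw [← Nat.cast_sum]
        have := DFunLike.congr_fun hsum (Sum.inl j)
        rw [Finsupp.add_apply, hS, Finsupp.finsetSum_apply, Finsupp.finsetSum_apply, hT] at this
        rw [← this, Finset.sum_eq_single j]
        · rw [Finsupp.single_eq_same, Nat.sub_add_cancel (Fact.out : p.Prime).one_le,
            CharP.cast_eq_zero]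
        · intro b _ hb
          rw [Finsupp.single_eq_of_ne]
          simpa using Ne.symm hb
        · simp
      have h := Matrix.det_updateRow_sum N ⟨0, hm⟩ (fun _ => 1)
      rw [hrow, one_smul] at h
      rw [← h]
      exact Matrix.det_eq_zero_of_row_eq_zero ⟨0, hm⟩ (fun j => by simp)
    calc _ = (∏ i, c i) * N.det := by
          rw [Matrix.det_apply', Finset.mul_sum]
          exact Finset.sum_congr rfl fun e _ => by ring
      _ = 0 := by rw [hdet, mul_zero]
  · simp

theorem coeff_jacobian_det (hm : 0 < m) (f : Fin m → MvPolynomial (Fin m ⊕ σ) R)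
    (T : (Fin m ⊕ σ) →₀ ℕ) (hT : ∀ j, T (Sum.inl j) = p - 1) :
    MvPolynomial.coeff T
        (Matrix.of fun i j : Fin m => MvPolynomial.pderiv (Sum.inl j) (f i)).det = 0 := by
  classical
  have hrow : (Matrix.of fun i j : Fin m => pderiv (Sum.inl j) (f i)) =
      fun i => ∑ a ∈ (f i).support, fun j => pderiv (Sum.inl j) (monomial a ((f i).coeff a)) := by
    funext i j
    rw [Finset.sum_apply, ← map_sum, ← MvPolynomial.as_sum]
    rfl
  rw [hrow]
  change MvPolynomial.coeff T
    ((Matrix.detRowAlternating (R := MvPolynomial (Fin m ⊕ σ) R)).toMultilinearMap _) = 0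
  rw [MultilinearMap.map_sum_finset, MvPolynomial.coeff_sum]
  refine Finset.sum_eq_zero fun r _ => ?_
  exact coeff_det_monomial p hm r (fun i => (f i).coeff (r i)) T hT

end Groth.Agent.FrobAlg54
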