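import Groth.Agent.FrobAlg54.PerfClos
import Mathlib.RingTheory.Flat.EquationalCriterion
import Mathlib.Algebra.CharP.Frobenius

/-!
A ring with a p-basis maps faithfully flatly to its perfect closure.
-/

set_option autoImplicit false
universe u

namespace Groth.Agent.FrobAlg54

variable {p : ℕ} [Fact p.Prime] {R : Type u} [CommRing R] [CharP R p] {κ : Type u} (m : κ → R)
  (hm : Function.Bijective (fun c : κ →₀ R => c.sum (fun e r => r ^ p * m e)))

include hm

theorem isReduced_of_bijective_monomials (h1 : ∃ e, m e = 1) : IsReduced R := by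
  obtain ⟨e, he⟩ := h1
  refine (isReduced_iff_pow_one_lt p (Fact.out : p.Prime).one_lt).mpr fun x hx => ?_
  have h : (fun c : κ →₀ R => c.sum (fun e r => r ^ p * m e)) (Finsupp.single e x) =
      (fun c : κ →₀ R => c.sum (fun e r => r ^ p * m e)) 0 := by
    simp [Finsupp.sum_single_index, hx, zero_pow (Fact.out : p.Prime).ne_zero, he]
  simpa using hm.1 h

theorem exists_relation_pow (N : ℕ) : ∀ {l : ℕ} (a y : Fin l → R), ∑ k, a k ^ p ^ N * y k = 0 →
    ∃ (ι : Type u) (_ : Fintype ι) (c : Fin l → ι → R) (z : ι → R),
      (∀ k, y k = ∑ j, c k j ^ p ^ N * z j) ∧ ∀ j, ∑ k, a k * c k j = 0 := by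
  classical
  induction N with
  | zero =>
    intro l a y h
    exact ⟨PUnit, inferInstance, fun k _ => y k, fun _ => 1, fun k => by simp,
      fun _ => by simpa using h⟩
  | succ N ih =>
    intro l a y h
    choose c hc using fun k => hm.2 (y k)
    let T : Finset κ := Finset.univ.biUnion fun k => (c k).support
    have hy : ∀ k, y k = ∑ e : T, c k e ^ p * m e := by
      intro k
      rw [← hc k, Finset.sum_coe_sort T fun e => c k e ^ p * m e]
      refine Finsupp.sum_of_support_subset _ (fun e he => Finset.mem_biUnion.mpr ⟨k, Finset.mem_univ _, he⟩) _ ?_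
      intro e _
      rw [zero_pow (Fact.out : p.Prime).ne_zero, zero_mul]
    have hrel : ∀ e : T, ∑ k, a k ^ p ^ N * c k e = 0 := by
      let s : κ →₀ R := Finsupp.onFinset T (fun e => if e ∈ T then ∑ k, a k ^ p ^ N * c k e else 0)
        (fun e he => by by_contra h'; simp [h'] at he)
      have hs : (fun c : κ →₀ R => c.sum (fun e r => r ^ p * m e)) s =
          (fun c : κ →₀ R => c.sum (fun e r => r ^ p * m e)) 0 := by
        show s.sum _ = (0 : κ →₀ R).sum _
        rw [Finsupp.sum_zero_index, Finsupp.sum_of_support_subset _ Finsupp.support_onFinset_subset _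
          (fun e _ => by rw [zero_pow (Fact.out : p.Prime).ne_zero, zero_mul]),
          ← Finset.sum_coe_sort T]
        refine Eq.trans ?_ h
        simp only [s, Finsupp.onFinset_apply, Finset.coe_mem, if_true, sum_pow_char, hy, Finset.mul_sum,
          Finset.sum_mul]
        rw [Finset.sum_comm]
        exact Finset.sum_congr rfl fun k _ => Finset.sum_congr rfl fun e _ => by
          rw [mul_pow, ← pow_mul, ← pow_succ]; ring
      intro e
      have := DFunLike.congr_fun (hm.1 hs) (e : κ)
      simpa [s] using this
    choose ι hι d z hd hd0 using fun e : T => ih a (fun k => c k e) (hrel e)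
    refine ⟨Σ e : T, ι e, inferInstance, fun k q => d q.1 k q.2, fun q => z q.1 q.2 ^ p * m q.1, fun k => ?_,
      fun q => hd0 q.1 q.2⟩
    rw [hy k, Fintype.sum_sigma]
    refine Finset.sum_congr rfl fun e _ => ?_
    rw [hd e k, sum_pow_char, Finset.sum_mul]
    refine Finset.sum_congr rfl fun j _ => ?_
    rw [mul_pow, ← pow_mul, ← pow_succ]
    ring

theorem faithfullyFlat_perfectClosure (h1 : ∃ e, m e = 1) : (PerfectClosure.of R p).FaithfullyFlat := by
  classical
  have hred : IsReduced R := isReduced_of_bijective_monomials m hm h1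
  have hinj : Function.Injective (PerfectClosure.of R p) := fun x y h => by
    rw [PerfectClosure.of_apply, PerfectClosure.of_apply, PerfectClosure.eq_iff] at h
    simpa using h
  rw [RingHom.FaithfullyFlat.iff_flat_and_comap_surjective]
  refine ⟨?_, ?_⟩
  · algebraize [PerfectClosure.of R p]
    show Module.Flat R (PerfectClosure R p)
    rw [Module.Flat.iff_forall_isTrivialRelation]
    intro l a x hx
    simp only [Algebra.smul_def, RingHom.algebraMap_toAlgebra] at hx
    obtain ⟨N, hN⟩ := exists_common_exp (p := p) (PerfectClosure.of R p) Finset.univ x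
    choose y hy using fun k => hN N le_rfl k (Finset.mem_univ _)
    have hrel : ∑ k, a k ^ p ^ N * y k = 0 := hinj (by
      have h2 := congrArg (iterateFrobenius (PerfectClosure R p) p N) hx
      rw [map_sum, map_zero] at h2
      rw [map_sum, map_zero, ← h2]
      exact Finset.sum_congr rfl fun k _ => by
        rw [map_mul, map_mul, iterateFrobenius_def, iterateFrobenius_def, map_pow, hy])
    obtain ⟨ι, _, c, z, hc, hc0⟩ := exists_relation_pow m hm N a y hrel
    let e := (Fintype.equivFin ι).symm
    refine ⟨Fintype.card ι, fun k j => c k (e j), fun j => root (p := p) N (PerfectClosure.of R p (z (e j))),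
      fun k => ?_, fun j => hc0 (e j)⟩
    apply eq_of_pow_eq (p := p) (n := N)
    rw [← hy k, hc k, map_sum, sum_pow_char_pow, ← e.sum_comp]
    refine Finset.sum_congr rfl fun j _ => ?_
    rw [Algebra.smul_def, RingHom.algebraMap_toAlgebra, mul_pow, root_pow, map_mul, map_pow]
  · refine (PrimeSpectrum.isHomeomorph_comap (PerfectClosure.of R p) (fun x => ?_) ?_).surjective
    · obtain ⟨n, y, hy⟩ := IsPRadical.pow_mem (PerfectClosure.of R p) p x
      exact ⟨p ^ n, pow_pos (Fact.out : p.Prime).pos n, y, hy⟩
    · exact (IsPRadical.ker_le (PerfectClosure.of R p) p).trans pNilradical_le_nilradical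

end Groth.Agent.FrobAlg54
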