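import Groth.Prelude.Def_FrobAlg
import Groth.Agent.FrobAlg54.PerfClos
import Mathlib.LinearAlgebra.DirectSum.Finsupp
import Mathlib.RingTheory.RingHom.FaithfullyFlat
import Mathlib.RingTheory.TensorProduct.Maps

/-!
The perfect closure of a ring which is projective over itself through Frobenius.
-/

set_option autoImplicit false

universe u

open scoped TensorProduct

namespace Groth.Agent.FrobAlg54

theorem projective_trans (R S P : Type u) [CommRing R] [CommRing S] [Algebra R S] [AddCommGroup P] [Module R P]
    [Module S P] [IsScalarTower R S P] [Module.Projective R S] [Module.Projective S P] : Module.Projective R P := by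
  classical
  obtain ⟨s, hs⟩ := (Module.Projective.iff_split_of_projective (R := S)
    (Finsupp.linearCombination S (id : P → P)) (Finsupp.linearCombination_surjective _ Function.surjective_id)).1 ‹_›
  haveI : Module.Projective R (P →₀ S) :=
    Module.Projective.of_equiv (finsuppLEquivDirectSum R S P).symm
  exact Module.Projective.of_split (M := P →₀ S) (s.restrictScalars R)
    ((Finsupp.linearCombination S (id : P → P)).restrictScalars R) (LinearMap.ext fun x => LinearMap.congr_fun hs x)

/-- The evaluations out of `P ⊗ ΠX` are jointly injective for projective `P`. -/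
theorem pi_lTensor_injective {R : Type u} [CommRing R] {P : Type u} [AddCommGroup P] [Module R P]
    [Module.Projective R P] {ι : Type} (X : ι → Type u) [∀ i, AddCommGroup (X i)] [∀ i, Module R (X i)]
    (z : P ⊗[R] (Π i, X i)) (h : ∀ i, LinearMap.lTensor P (LinearMap.proj i : (Π i, X i) →ₗ[R] X i) z = 0) :
    z = 0 := by
  classical
  obtain ⟨s, hs⟩ := Module.projective_def'.1 ‹Module.Projective R P›
  have hinj : Function.Injective (s.rTensor (Π i, X i)) := fun a b e => by
    have := congrArg ((Finsupp.linearCombination R (id : P → P)).rTensor (Π i, X i)) e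
    rwa [← LinearMap.rTensor_comp_apply, ← LinearMap.rTensor_comp_apply, hs, LinearMap.rTensor_id,
      LinearMap.id_apply, LinearMap.id_apply] at this
  refine hinj (Eq.trans ?_ (map_zero _).symm)
  apply (TensorProduct.finsuppScalarLeft R (Π i, X i) P).injective
  refine Finsupp.ext fun j => funext fun i => ?_
  rw [map_zero, Finsupp.zero_apply, Pi.zero_apply]
  have key : ∀ w : P ⊗[R] (Π i, X i),
      TensorProduct.finsuppScalarLeft R (Π i, X i) P (s.rTensor _ w) j i =
        TensorProduct.finsuppScalarLeft R (X i) P
          (s.rTensor _ (LinearMap.lTensor P (LinearMap.proj i : (Π i, X i) →ₗ[R] X i) w)) j := fun w => by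
    induction w using TensorProduct.induction_on with
    | zero => simp
    | tmul a f => simp [TensorProduct.finsuppScalarLeft_apply_tmul_apply]
    | add a b ha hb => simp only [map_add, Finsupp.add_apply, Pi.add_apply, ha, hb]
  rw [key, h i]
  simp

variable (p : ℕ) [Fact p.Prime] (R : Type u) [CommRing R] [CharP R p]

/-- `R` through the `e`-th iterate of Frobenius. -/
@[nolint unusedArguments]
def RT (_p _e : ℕ) (R : Type u) : Type u := R

variable (e : ℕ)

instance : CommRing (RT p e R) := inferInstanceAs (CommRing R)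

instance : CharP (RT p e R) p := inferInstanceAs (CharP R p)

/-- The identity onto the copy. -/
def toRT : R ≃+* RT p e R := RingEquiv.refl R

instance : Algebra R (RT p e R) := ((toRT p R e : R →+* RT p e R).comp (iterateFrobenius R p e)).toAlgebra

theorem smul_RT (r : R) (x : R) : r • toRT p R e x = toRT p R e (r ^ p ^ e * x) := by
  rw [Algebra.smul_def, RingHom.algebraMap_toAlgebra, map_mul]
  rfl

theorem projective_RT [Module.Projective R (FrobAlg.Twist p R)] : ∀ e, Module.Projective R (RT p e R)
  | 0 => Module.Projective.of_equiv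
      ({ (toRT p R 0).toAddEquiv with
        map_smul' := fun r x => by
          show toRT p R 0 (r * x) = r • toRT p R 0 x
          rw [smul_RT, pow_zero, pow_one] } : R ≃ₗ[R] RT p 0 R)
  | e + 1 => by
    have := projective_RT e
    let T := FrobAlg.Twist p (RT p e R)
    letI : Algebra R T := ((algebraMap (RT p e R) T).comp (algebraMap R (RT p e R))).toAlgebra
    haveI : IsScalarTower R (RT p e R) T := IsScalarTower.of_algebraMap_eq' rfl
    haveI : Module.Projective (RT p e R) T := ‹Module.Projective R (FrobAlg.Twist p R)›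
    haveI : Module.Projective R T := projective_trans R (RT p e R) T
    refine Module.Projective.of_equiv ({ (((FrobAlg.toTwist p (RT p e R)).symm.toAddEquiv).trans
      ((toRT p R e).symm.toAddEquiv.trans (toRT p R (e + 1)).toAddEquiv)) with
        map_smul' := fun r x => ?_ } : T ≃ₗ[R] RT p (e + 1) R)
    show ((toRT p R (e + 1)) ((toRT p R e).symm ((FrobAlg.toTwist p (RT p e R)).symm (r • x)))) = _
    obtain ⟨y, rfl⟩ := (FrobAlg.toTwist p (RT p e R)).surjective x
    obtain ⟨z, rfl⟩ := (toRT p R e).surjective y
    rw [Algebra.smul_def, RingHom.algebraMap_toAlgebra]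
    show toRT p R (e + 1) ((r ^ p ^ e) ^ p * z) = r • toRT p R (e + 1) z
    rw [smul_RT, ← pow_mul, ← pow_succ]

theorem one_notMem_of_sum {m : Ideal R} (hm : m ≠ ⊤) {l : ℕ} (a : Fin l → R) (ha : ∀ k, a k ∈ m) (y : Fin l → R)
    (n : ℕ) (hn : n ≠ 0) : ∑ k, a k ^ n * y k ≠ 1 := fun h =>
  hm ((Ideal.eq_top_iff_one _).2 (h ▸ sum_mem fun k _ => Ideal.mul_mem_right _ _ (Ideal.pow_mem_of_mem _ (ha k) _ (Nat.pos_of_ne_zero hn))))

theorem exists_sum_of_mem_smul_top {S : Type u} [CommRing S] [Algebra R S] {m : Ideal R} {x : S}
    (hx : x ∈ m • (⊤ : Submodule R S)) :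
    ∃ (l : ℕ) (a : Fin l → R) (y : Fin l → S), (∀ k, a k ∈ m) ∧ x = ∑ k, a k • y k := by
  refine Submodule.smul_induction_on (p := fun x => ∃ (l : ℕ) (a : Fin l → R) (y : Fin l → S),
    (∀ k, a k ∈ m) ∧ x = ∑ k, a k • y k) hx (fun r hr s _ => ⟨1, fun _ => r, fun _ => s, fun _ => hr, by simp⟩) ?_
  rintro x y ⟨l, a, s, ha, rfl⟩ ⟨l', a', s', ha', rfl⟩
  exact ⟨l + l', Fin.append a a', Fin.append s s',
    fun k => Fin.addCases (fun i => by simp [ha i]) (fun i => by simp [ha' i]) k, by simp [Fin.sum_univ_add]⟩

variable [Module.Projective R (FrobAlg.Twist p R)]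

theorem faithfullyFlat_twist : Module.FaithfullyFlat R (FrobAlg.Twist p R) := by
  refine ⟨fun m hm h => ?_⟩
  obtain ⟨l, a, y, ha, hy⟩ := exists_sum_of_mem_smul_top R (h.ge Submodule.mem_top :
    (1 : FrobAlg.Twist p R) ∈ m • (⊤ : Submodule R (FrobAlg.Twist p R)))
  refine one_notMem_of_sum R hm.ne_top a ha (fun k => (FrobAlg.toTwist p R).symm (y k)) p
    (Fact.out : p.Prime).ne_zero ?_
  refine Eq.trans ?_ ((congrArg (FrobAlg.toTwist p R).symm hy).symm.trans (map_one _))
  rw [map_sum]
  refine Finset.sum_congr rfl fun k _ => ?_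
  rw [Algebra.smul_def, map_mul, FrobAlg.algebraMap_twist, RingEquiv.symm_apply_apply]

include p in
theorem isReduced_of_projective : IsReduced R := by
  have := faithfullyFlat_twist p R
  have hinj : Function.Injective (algebraMap R (FrobAlg.Twist p R)) := FaithfulSMul.algebraMap_injective _ _
  refine (isReduced_iff_pow_one_lt p (Fact.out : p.Prime).one_lt).mpr fun x hx => hinj ?_
  rw [map_zero, FrobAlg.algebraMap_twist, hx, map_zero]

theorem of_injective : Function.Injective (PerfectClosure.of R p) := fun x y h => by
  have := isReduced_of_projective p R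
  rw [PerfectClosure.of_apply, PerfectClosure.of_apply, PerfectClosure.eq_iff] at h
  simpa using h

omit [Module.Projective R (FrobAlg.Twist p R)] in
/-- `x ↦ x^{1/p^e}`. -/
noncomputable def phi (e : ℕ) : RT p e R →+* PerfectClosure R p :=
  ((root (p := p) e).comp (PerfectClosure.of R p)).comp ((toRT p R e).symm : RT p e R →+* R)

omit [Module.Projective R (FrobAlg.Twist p R)] in
theorem phi_pow (e : ℕ) (x : R) : phi p R e (toRT p R e x) ^ p ^ e = PerfectClosure.of R p x :=
  root_pow _ _

theorem phi_injective (e : ℕ) : Function.Injective (phi p R e) := fun x y h => by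
  obtain ⟨x, rfl⟩ := (toRT p R e).surjective x
  obtain ⟨y, rfl⟩ := (toRT p R e).surjective y
  rw [of_injective p R ((phi_pow p R e x).symm.trans ((congrArg (· ^ p ^ e) h).trans (phi_pow p R e y)))]

omit [Module.Projective R (FrobAlg.Twist p R)] in
theorem exists_phi {l : ℕ} (x : Fin l → PerfectClosure R p) :
    ∃ (e : ℕ) (y : Fin l → RT p e R), ∀ k, phi p R e (y k) = x k := by
  obtain ⟨N, hN⟩ := exists_common_exp (p := p) (PerfectClosure.of R p) Finset.univ x
  choose y hy using fun k => hN N le_rfl k (Finset.mem_univ _)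
  exact ⟨N, fun k => toRT p R N (y k), fun k => eq_of_pow_eq (p := p) (n := N) ((phi_pow p R N _).trans (hy k))⟩

omit [Module.Projective R (FrobAlg.Twist p R)] in
theorem phi_algebraMap (e : ℕ) (r : R) : phi p R e (algebraMap R (RT p e R) r) = PerfectClosure.of R p r := by
  apply eq_of_pow_eq (p := p) (n := e)
  rw [RingHom.algebraMap_toAlgebra]
  refine (phi_pow p R e _).trans ?_
  rw [← map_pow, iterateFrobenius_def]
  rfl

theorem faithfullyFlat_of :
    letI : Algebra R (PerfectClosure R p) := (PerfectClosure.of R p).toAlgebra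
    Module.FaithfullyFlat R (PerfectClosure R p) := by
  letI : Algebra R (PerfectClosure R p) := (PerfectClosure.of R p).toAlgebra
  have hflat : Module.Flat R (PerfectClosure R p) := by
    rw [Module.Flat.iff_forall_isTrivialRelation]
    intro l a x hx
    obtain ⟨e, y, hy⟩ := exists_phi p R x
    have := projective_RT p R e
    have h0 : ∑ k, a k • y k = 0 := phi_injective p R e (by
      rw [map_zero, map_sum, ← hx]
      exact Finset.sum_congr rfl fun k _ => by
        rw [Algebra.smul_def, map_mul, phi_algebraMap, hy, Algebra.smul_def]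
        rfl)
    obtain ⟨n, c, z, hz, hc⟩ := Module.Flat.isTrivialRelation_of_sum_smul_eq_zero h0
    refine ⟨n, c, fun j => phi p R e (z j), fun k => ?_, hc⟩
    rw [← hy k, hz k, map_sum]
    exact Finset.sum_congr rfl fun j _ => by
      rw [Algebra.smul_def, map_mul, phi_algebraMap, Algebra.smul_def]
      rfl
  refine { hflat with submodule_ne_top := fun m hm h => ?_ }
  obtain ⟨l, a, y, ha, hy⟩ := exists_sum_of_mem_smul_top R (h.ge Submodule.mem_top :
    (1 : PerfectClosure R p) ∈ m • (⊤ : Submodule R (PerfectClosure R p)))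
  obtain ⟨e, b, hb⟩ := exists_phi p R y
  refine one_notMem_of_sum R hm.ne_top a ha (fun k => (toRT p R e).symm (b k)) (p ^ e)
    (pow_ne_zero _ (Fact.out : p.Prime).ne_zero) (of_injective p R ?_)
  rw [map_one, map_sum, ← one_pow (p ^ e), hy, sum_pow_char_pow]
  refine Finset.sum_congr rfl fun k _ => ?_
  rw [map_mul, map_pow, ← phi_pow p R e ((toRT p R e).symm (b k)), RingEquiv.apply_symm_apply, hb,
    Algebra.smul_def, mul_pow]
  rfl

/-- `phi` linearly. -/
noncomputable def phiLin (e : ℕ) :
    letI : Algebra R (PerfectClosure R p) := (PerfectClosure.of R p).toAlgebra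
    RT p e R →ₗ[R] PerfectClosure R p :=
  letI : Algebra R (PerfectClosure R p) := (PerfectClosure.of R p).toAlgebra
  { toFun := phi p R e
    map_add' := map_add _
    map_smul' := fun r x => by
      rw [Algebra.smul_def, map_mul, phi_algebraMap, RingHom.id_apply, Algebra.smul_def]
      rfl }

theorem phi_lTensor_injective (e : ℕ) (X : Type u) [AddCommGroup X] [Module R X] :
    letI : Algebra R (PerfectClosure R p) := (PerfectClosure.of R p).toAlgebra
    Function.Injective ((phiLin p R e).rTensor X) := by
  letI : Algebra R (PerfectClosure R p) := (PerfectClosure.of R p).toAlgebra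
  letI : Algebra (RT p e R) (PerfectClosure R p) := (phi p R e).toAlgebra
  haveI : IsScalarTower R (RT p e R) (PerfectClosure R p) :=
    IsScalarTower.of_algebraMap_eq fun r => (phi_algebraMap p R e r).symm
  haveI : Module.FaithfullyFlat (RT p e R) (PerfectClosure R p) := by
    have h1 : (PerfectClosure.of R p).FaithfullyFlat :=
      RingHom.faithfullyFlat_algebraMap_iff.2 (faithfullyFlat_of p R)
    have h2 : (phi p R e).FaithfullyFlat :=
      RingHom.FaithfullyFlat.stableUnderComposition _ _ (RingHom.FaithfullyFlat.of_bijective (toRT p R e).symm.bijective)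
        (RingHom.FaithfullyFlat.stableUnderComposition _ _ h1 (RingHom.FaithfullyFlat.of_bijective
          (f := root (p := p) e) (iterateFrobeniusEquiv (PerfectClosure R p) p e).symm.bijective))
    exact RingHom.faithfullyFlat_algebraMap_iff.1 h2
  let c := TensorProduct.AlgebraTensorModule.cancelBaseChange R (RT p e R) (PerfectClosure R p)
    (PerfectClosure R p) X
  have key : ∀ w, c ((TensorProduct.mk (RT p e R) (PerfectClosure R p) (RT p e R ⊗[R] X) 1) w) =
      (phiLin p R e).rTensor X w := fun w => by
    induction w using TensorProduct.induction_on with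
    | zero => simp
    | tmul a x =>
      rw [TensorProduct.mk_apply, TensorProduct.AlgebraTensorModule.cancelBaseChange_tmul, LinearMap.rTensor_tmul,
        Algebra.smul_def, mul_one]
      rfl
    | add a b ha hb => rw [map_add, map_add, map_add, ha, hb]
  exact fun a b h => Module.FaithfullyFlat.tensorProduct_mk_injective (A := RT p e R) (B := PerfectClosure R p) _
    (c.injective ((key a).trans (h.trans (key b).symm)))

theorem exists_rTensor_eq (X : Type u) [AddCommGroup X] [Module R X] :
    letI : Algebra R (PerfectClosure R p) := (PerfectClosure.of R p).toAlgebra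
    ∀ z : PerfectClosure R p ⊗[R] X, ∃ (e : ℕ) (w : RT p e R ⊗[R] X), (phiLin p R e).rTensor X w = z := by
  letI : Algebra R (PerfectClosure R p) := (PerfectClosure.of R p).toAlgebra
  intro z
  obtain ⟨t, rfl⟩ := TensorProduct.exists_finset z
  obtain ⟨e, y, hy⟩ := exists_phi p R fun k => (t.equivFin.symm k).1.1
  refine ⟨e, ∑ k, y k ⊗ₜ (t.equivFin.symm k).1.2, ?_⟩
  rw [map_sum, ← Finset.sum_coe_sort t, ← t.equivFin.symm.sum_comp]
  exact Finset.sum_congr rfl fun k _ => (LinearMap.rTensor_tmul _ _ _ _).trans (congrArg (· ⊗ₜ[R] _) (hy k))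

theorem lTensor_pi_injective {ι : Type} (X : ι → Type u) [∀ i, AddCommGroup (X i)] [∀ i, Module R (X i)]
    (N : Submodule R (Π i, X i)) :
    letI : Algebra R (PerfectClosure R p) := (PerfectClosure.of R p).toAlgebra
    Function.Injective (LinearMap.pi fun i =>
      LinearMap.lTensor (PerfectClosure R p) ((LinearMap.proj i : (Π i, X i) →ₗ[R] X i) ∘ₗ N.subtype)) := by
  letI : Algebra R (PerfectClosure R p) := (PerfectClosure.of R p).toAlgebra
  have := faithfullyFlat_of p R
  refine (injective_iff_map_eq_zero _).2 fun z hz => ?_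
  apply Module.Flat.lTensor_preserves_injective_linearMap (M := PerfectClosure R p) N.subtype N.injective_subtype
  rw [map_zero]
  have hz' : ∀ i, LinearMap.lTensor (PerfectClosure R p) (LinearMap.proj i : (Π i, X i) →ₗ[R] X i)
      (N.subtype.lTensor _ z) = 0 := fun i => by
    rw [← LinearMap.lTensor_comp_apply]
    exact congrFun hz i
  generalize N.subtype.lTensor (PerfectClosure R p) z = y at hz' ⊢
  obtain ⟨e, w, rfl⟩ := exists_rTensor_eq p R _ y
  have := projective_RT p R e
  rw [pi_lTensor_injective X w fun i => phi_lTensor_injective p R e (X i) ?_, map_zero]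
  rw [map_zero, ← hz' i]
  clear hz'
  induction w using TensorProduct.induction_on with
  | zero => simp
  | tmul a f => simp
  | add a b ha hb => simp only [map_add, ha, hb]

end Groth.Agent.FrobAlg54
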