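import Groth.Agent.FrobAlg54.TorVan
import Mathlib.RingTheory.TensorProduct.Quotient
import Mathlib.RingTheory.TensorProduct.MonoidAlgebra
import Mathlib.Algebra.CharP.Lemmas
import Mathlib.LinearAlgebra.TensorProduct.Quotient

/-!
Perfect rings are Tor-independent.
-/

set_option autoImplicit false

universe u

open scoped TensorProduct

namespace Groth.Agent.FrobAlg54

variable (p : ℕ) [Fact p.Prime]

/-- `p = 0` and the `p`-th power map is bijective. -/
structure Perf (R : Type u) [CommRing R] : Prop where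
  zero : (p : R) = 0
  bij : Function.Bijective fun a : R => a ^ p

variable {p} {R : Type u} [CommRing R]

theorem Perf.add_pow (h : (p : R) = 0) (x y : R) : (x + y) ^ p = x ^ p + y ^ p := by
  obtain ⟨r, hr⟩ := exists_add_pow_prime_eq (Fact.out : p.Prime) x y
  rw [hr, h, zero_mul, zero_mul, zero_mul, add_zero]

/-- Frobenius as an automorphism. -/
noncomputable def Perf.frobE (h : Perf p R) : R ≃+* R :=
  RingEquiv.ofBijective
    ({ toFun := fun a => a ^ p
       map_one' := one_pow p
       map_mul' := fun a b => mul_pow a b p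
       map_zero' := zero_pow (Fact.out : p.Prime).ne_zero
       map_add' := Perf.add_pow h.zero } : R →+* R) h.bij

theorem Perf.frobE_apply (h : Perf p R) (a : R) : h.frobE a = a ^ p := rfl

/-- The `p^m`-th root. -/
noncomputable def Perf.rt (h : Perf p R) : ℕ → R →+* R
  | 0 => RingHom.id R
  | m + 1 => (h.frobE.symm : R →+* R).comp (h.rt m)

theorem Perf.rt_succ_pow (h : Perf p R) (m : ℕ) (a : R) : h.rt (m + 1) a ^ p = h.rt m a :=
  h.frobE.apply_symm_apply _

theorem Perf.eq_zero_of_pow (h : Perf p R) {a : R} (ha : a ^ p = 0) : a = 0 :=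
  h.bij.1 (ha.trans (zero_pow (Fact.out : p.Prime).ne_zero).symm)

theorem Perf.rt_pow (h : Perf p R) (m : ℕ) (a : R) : h.rt m a ^ p ^ m = a := by
  induction m with
  | zero => exact pow_one a
  | succ m ih => rw [pow_succ', pow_mul, h.rt_succ_pow, ih]

theorem Perf.eq_of_pow (h : Perf p R) : ∀ (n : ℕ) {a b : R}, a ^ p ^ n = b ^ p ^ n → a = b
  | 0, a, b, e => by simpa using e
  | n + 1, a, b, e => h.eq_of_pow n (h.bij.1 (show (a ^ p ^ n) ^ p = (b ^ p ^ n) ^ p by rwa [← pow_mul, ← pow_mul, ← pow_succ]))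

theorem Perf.map_rt {S : Type u} [CommRing S] (h : Perf p R) (h' : Perf p S) (f : R →+* S) (m : ℕ) (a : R) :
    f (h.rt m a) = h'.rt m (f a) :=
  h'.eq_of_pow m (by rw [← map_pow, h.rt_pow, h'.rt_pow])

/-- The perfect ideal generated by a family. -/
noncomputable def perfIdeal {ι : Type*} (h : Perf p R) (g : ι → R) : Ideal R :=
  Ideal.span {x | ∃ k m, h.rt m (g k) = x}

theorem rt_mem_perfIdeal {ι : Type*} (h : Perf p R) (g : ι → R) (k : ι) (m : ℕ) : h.rt m (g k) ∈ perfIdeal h g :=
  Ideal.subset_span ⟨k, m, rfl⟩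

theorem frobE_symm_mem {ι : Type*} (h : Perf p R) (g : ι → R) {x : R} (hx : x ∈ perfIdeal h g) :
    h.frobE.symm x ∈ perfIdeal h g := by
  refine Submodule.span_induction ?_ ?_ ?_ ?_ hx
  · rintro _ ⟨k, m, rfl⟩
    exact rt_mem_perfIdeal h g k (m + 1)
  · rw [map_zero]; exact zero_mem _
  · intro a b _ _ ha hb
    rw [map_add]; exact add_mem ha hb
  · intro c a _ ha
    rw [smul_eq_mul, map_mul]; exact Ideal.mul_mem_left _ _ ha

theorem perfIdeal_of_pow_mem {ι : Type*} (h : Perf p R) (g : ι → R) {x : R} (hx : x ^ p ∈ perfIdeal h g) :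
    x ∈ perfIdeal h g := by
  have := frobE_symm_mem h g hx
  rwa [← h.frobE_apply, RingEquiv.symm_apply_apply] at this

theorem Perf.of_surjective {S : Type u} [CommRing S] (h : Perf p R) (f : R →+* S) (hf : Function.Surjective f)
    (hk : ∀ x, x ^ p ∈ RingHom.ker f → x ∈ RingHom.ker f) : Perf p S := by
  have h0 : (p : S) = 0 := by rw [← map_natCast f, h.zero, map_zero]
  refine ⟨h0, fun a b e => ?_, fun s => ?_⟩
  · obtain ⟨a, rfl⟩ := hf a
    obtain ⟨b, rfl⟩ := hf b
    refine sub_eq_zero.1 ((map_sub f a b).symm.trans (hk (a - b) ?_))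
    have e' : f a ^ p = f b ^ p := e
    have h1 := Perf.add_pow h0 (f a - f b) (f b)
    rw [sub_add_cancel, e', eq_comm, add_eq_right] at h1
    rw [RingHom.mem_ker, map_pow, map_sub, h1]
  · obtain ⟨r, rfl⟩ := hf s
    exact ⟨f (h.rt 1 r), by
      show f (h.rt 1 r) ^ p = f r
      rw [← map_pow, h.rt_succ_pow 0 r]
      rfl⟩

theorem Perf.of_ker_eq {S : Type u} [CommRing S] (h : Perf p R) (f : R →+* S) (hf : Function.Surjective f)
    {ι : Type*} (g : ι → R) (hk : RingHom.ker f = perfIdeal h g) : Perf p S :=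
  h.of_surjective f hf fun x hx => by
    rw [hk] at hx ⊢
    exact perfIdeal_of_pow_mem h g hx

theorem map_perfIdeal {S : Type u} [CommRing S] {ι : Type*} (h : Perf p R) (h' : Perf p S) (f : R →+* S)
    (g : ι → R) : (perfIdeal h g).map f = perfIdeal h' (f ∘ g) := by
  rw [perfIdeal, Ideal.map_span]
  refine congrArg Ideal.span (Set.ext fun y => ⟨?_, ?_⟩)
  · rintro ⟨x, ⟨k, m, rfl⟩, rfl⟩
    exact ⟨k, m, (h.map_rt h' f m (g k)).symm⟩
  · rintro ⟨k, m, rfl⟩
    exact ⟨_, ⟨k, m, rfl⟩, h.map_rt h' f m (g k)⟩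

section Quot

variable {B : Type u} [CommRing B] [Algebra R B] (hB : Function.Surjective (algebraMap R B))

include hB in
theorem exists_quotSMul_equiv (M : Type u) [AddCommGroup M] [Module R M] :
    ∃ e : B ⊗[R] M ≃ₗ[R] M ⧸ (RingHom.ker (algebraMap R B) • ⊤ : Submodule R M),
      ∀ m, e (1 ⊗ₜ m) = Submodule.Quotient.mk m := by
  let I := RingHom.ker (algebraMap R B)
  let e₀ : (R ⧸ I) ≃ₐ[R] B := Ideal.quotientKerAlgEquivOfSurjective (f := Algebra.ofId R B) hB
  refine ⟨(e₀.symm.toLinearEquiv.rTensor M).trans (TensorProduct.quotTensorEquivQuotSMul M I), fun m => ?_⟩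
  rw [LinearEquiv.trans_apply, LinearEquiv.rTensor_tmul]
  show TensorProduct.quotTensorEquivQuotSMul M I (e₀.symm 1 ⊗ₜ[R] m) = _
  rw [map_one]
  exact (TensorProduct.quotTensorEquivQuotSMul_mk_tmul I (1 : R) m).trans (by rw [one_smul])

include hB in
theorem exists_one_tmul_eq {M : Type u} [AddCommGroup M] [Module R M] (w : B ⊗[R] M) : ∃ m, (1 : B) ⊗ₜ[R] m = w := by
  obtain ⟨e, he⟩ := exists_quotSMul_equiv hB M
  obtain ⟨m, hm⟩ := Submodule.Quotient.mk_surjective _ (e w)
  exact ⟨m, e.injective ((he m).trans hm)⟩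

include hB in
theorem one_tmul_eq_zero_iff {M : Type u} [AddCommGroup M] [Module R M] (m : M) :
    (1 : B) ⊗ₜ[R] m = 0 ↔ m ∈ (RingHom.ker (algebraMap R B) • ⊤ : Submodule R M) := by
  obtain ⟨e, he⟩ := exists_quotSMul_equiv hB M
  rw [← e.map_eq_zero_iff, he, Submodule.Quotient.mk_eq_zero]

include hB in
theorem lTensor_injective_iff {K F : Type u} [AddCommGroup K] [Module R K] [AddCommGroup F] [Module R F]
    (f : K →ₗ[R] F) :
    Function.Injective (f.lTensor B) ↔ ∀ z, f z ∈ (RingHom.ker (algebraMap R B) • ⊤ : Submodule R F) →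
      z ∈ (RingHom.ker (algebraMap R B) • ⊤ : Submodule R K) := by
  refine ⟨fun h z hz => (one_tmul_eq_zero_iff hB z).1 (h ?_), fun h => (injective_iff_map_eq_zero _).2 fun w hw => ?_⟩
  · rw [LinearMap.lTensor_tmul, map_zero, one_tmul_eq_zero_iff hB]
    exact hz
  · obtain ⟨z, rfl⟩ := exists_one_tmul_eq hB w
    rw [LinearMap.lTensor_tmul, one_tmul_eq_zero_iff hB] at hw
    exact (one_tmul_eq_zero_iff hB z).2 (h z hw)

include hB in
theorem perf_baseChange (h : Perf p R) (hk : ∃ (ι : Type) (g : ι → R), RingHom.ker (algebraMap R B) = perfIdeal h g)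
    {C : Type u} [CommRing C] [Algebra R C] (hC : Perf p C) : Perf p (B ⊗[R] C) := by
  obtain ⟨ι, g, hg⟩ := hk
  let f : C →+* B ⊗[R] C := (Algebra.TensorProduct.includeRight : C →ₐ[R] B ⊗[R] C).toRingHom
  refine hC.of_ker_eq f (fun w => exists_one_tmul_eq hB w) (algebraMap R C ∘ g) ?_
  ext c
  rw [RingHom.mem_ker, ← map_perfIdeal h hC, ← hg]
  show (1 : B) ⊗ₜ[R] c = 0 ↔ _
  rw [one_tmul_eq_zero_iff hB, Ideal.smul_top_eq_map]
  rfl

end Quot

section Single

variable (h : Perf p R) (g : R)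

theorem rt_succ_mul (m : ℕ) : h.rt (m + 1) g ^ (p - 1) * h.rt (m + 1) g = h.rt m g := by
  rw [← pow_succ, Nat.sub_add_cancel (Fact.out : p.Prime).pos, h.rt_succ_pow]

theorem rt_mem_span_of_le {m n : ℕ} (hmn : m ≤ n) : h.rt m g ∈ Ideal.span {h.rt n g} := by
  induction n, hmn using Nat.le_induction with
  | base => exact Ideal.mem_span_singleton_self _
  | succ n _ ih =>
    refine Ideal.span_le.2 ?_ ih
    rintro _ rfl
    exact Ideal.mem_span_singleton'.2 ⟨_, rt_succ_mul h g n⟩

theorem exists_smul_of_mem {M : Type u} [AddCommGroup M] [Module R M] {z : M}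
    (hz : z ∈ (perfIdeal h (fun _ : Unit => g) • ⊤ : Submodule R M)) : ∃ (m : ℕ) (w : M), h.rt m g • w = z := by
  refine Submodule.smul_induction_on hz (fun a ha w _ => ?_) ?_
  · induction ha using Submodule.span_induction generalizing w with
    | mem x hx =>
      obtain ⟨_, m, rfl⟩ := hx
      exact ⟨m, w, rfl⟩
    | zero => exact ⟨0, 0, by rw [smul_zero, zero_smul]⟩
    | add x y _ _ hx hy =>
      obtain ⟨m, u, hu⟩ := hx w Submodule.mem_top
      obtain ⟨n, v, hv⟩ := hy w Submodule.mem_top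
      obtain ⟨a, ha⟩ := Ideal.mem_span_singleton'.1 (rt_mem_span_of_le h g (le_max_left m n))
      obtain ⟨b, hb⟩ := Ideal.mem_span_singleton'.1 (rt_mem_span_of_le h g (le_max_right m n))
      exact ⟨max m n, a • u + b • v, by rw [smul_add, smul_smul, smul_smul, mul_comm _ a, mul_comm _ b, ha, hb, hu, hv, add_smul]⟩
    | smul c x _ hx =>
      obtain ⟨m, u, hu⟩ := hx w Submodule.mem_top
      exact ⟨m, c • u, by rw [smul_comm, hu, smul_assoc]⟩
  · rintro x y ⟨m, u, rfl⟩ ⟨n, v, rfl⟩
    obtain ⟨a, ha⟩ := Ideal.mem_span_singleton'.1 (rt_mem_span_of_le h g (le_max_left m n))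
    obtain ⟨b, hb⟩ := Ideal.mem_span_singleton'.1 (rt_mem_span_of_le h g (le_max_right m n))
    exact ⟨max m n, a • u + b • v, by rw [smul_add, smul_smul, smul_smul, mul_comm _ a, mul_comm _ b, ha, hb]⟩

theorem rt_succ_smul_eq_zero {C : Type u} [CommRing C] [Algebra R C] (hC : Perf p C) (m : ℕ) (c : C)
    (hc : h.rt m g • c = 0) : h.rt (m + 1) g • c = 0 := by
  refine hC.eq_zero_of_pow ?_
  rw [Algebra.smul_def] at hc ⊢
  rw [mul_pow, ← map_pow, h.rt_succ_pow, ← mul_pow_sub_one (Fact.out : p.Prime).ne_zero c, ← mul_assoc, hc,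
    zero_mul]

theorem rt_succ_smul_eq_zero_of_free {F : Type u} [AddCommGroup F] [Module R F] [Module.Free R F] (m : ℕ) (z : F)
    (hz : h.rt m g • z = 0) : h.rt (m + 1) g • z = 0 := by
  let b := Module.Free.chooseBasis R F
  apply b.repr.injective
  rw [map_smul, map_zero]
  refine Finsupp.ext fun i => ?_
  have := DFunLike.congr_fun (congrArg b.repr hz) i
  rw [map_smul, map_zero, Finsupp.smul_apply, Finsupp.zero_apply] at this
  exact rt_succ_smul_eq_zero h g h m _ this

theorem torZ_single {B : Type u} [CommRing B] [Algebra R B] (hB : Function.Surjective (algebraMap R B))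
    (hk : RingHom.ker (algebraMap R B) = perfIdeal h (fun _ : Unit => g)) {C : Type u} [CommRing C] [Algebra R C]
    (hC : Perf p C) (i : ℕ) : TorZ (A := R) B C i := by
  refine torZ_of_invariant B
    (fun M _ _ => ∀ (m : ℕ) (c : M), h.rt m g • c = 0 → h.rt (m + 1) g • c = 0) (fun M _ _ F _ _ _ c _ hM => ⟨?_, ?_⟩)
    i C (rt_succ_smul_eq_zero h g hC)
  · intro m y hy
    exact Subtype.ext (rt_succ_smul_eq_zero_of_free h g m y.1 (congrArg Subtype.val hy))
  · refine (lTensor_injective_iff hB (LinearMap.ker c).subtype).2 ?_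
    rw [hk]
    rintro ⟨z, hz⟩ hmem
    obtain ⟨m, w, hw⟩ := exists_smul_of_mem h g hmem
    have hw : h.rt m g • w = z := hw
    have h1 : h.rt m g • c w = 0 := by
      rw [← map_smul, hw]
      exact hz
    have hker : h.rt (m + 1) g • w ∈ LinearMap.ker c := by
      rw [LinearMap.mem_ker, map_smul]
      exact hM m _ h1
    have : (⟨z, hz⟩ : LinearMap.ker c) = h.rt (m + 1) g ^ (p - 1) • (⟨_, hker⟩ : LinearMap.ker c) :=
      Subtype.ext (by
        show z = h.rt (m + 1) g ^ (p - 1) • h.rt (m + 1) g • w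
        rw [smul_smul, rt_succ_mul, hw])
    rw [this]
    refine Submodule.smul_mem_smul ?_ Submodule.mem_top
    refine Ideal.pow_mem_of_mem _ (rt_mem_perfIdeal h (fun _ : Unit => g) () (m + 1)) _ ?_
    have := (Fact.out : p.Prime).two_le
    omega

end Single

theorem ker_algebraMap_mk {J : Ideal R} : RingHom.ker (algebraMap R (R ⧸ J)) = J := by
  rw [Ideal.Quotient.algebraMap_eq, Ideal.mk_ker]

theorem torZ_finite : ∀ (l : ℕ) {R : Type u} [CommRing R] (h : Perf p R) (g : Fin l → R) {B : Type u} [CommRing B]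
    [Algebra R B], Function.Surjective (algebraMap R B) → RingHom.ker (algebraMap R B) = perfIdeal h g →
    ∀ {C : Type u} [CommRing C] [Algebra R C], Perf p C → ∀ i, TorZ (A := R) B C i := by
  intro l
  induction l with
  | zero =>
    intro R _ h g B _ _ hB hk C _ _ hC i
    have hbot : perfIdeal h g = ⊥ := Ideal.span_eq_bot.2 fun x ⟨k, _⟩ => k.elim0
    have : Module.Flat R B := Module.Flat.of_linearEquiv (LinearEquiv.ofBijective (Algebra.linearMap R B)
      ⟨(RingHom.injective_iff_ker_eq_bot (algebraMap R B)).2 (hk.trans hbot), hB⟩).symm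
    exact torZ_of_flat B i C
  | succ l ih =>
    intro R _ h g B _ _ hB hk C _ _ hC i
    let I := perfIdeal h (fun _ : Unit => g 0)
    have hI : I ≤ RingHom.ker (algebraMap R B) := by
      rw [hk]
      exact Ideal.span_le.2 fun x ⟨_, m, e⟩ => e ▸ rt_mem_perfIdeal h g 0 m
    have hR1 : Perf p (R ⧸ I) :=
      h.of_ker_eq (Ideal.Quotient.mk I) Ideal.Quotient.mk_surjective (fun _ : Unit => g 0) Ideal.mk_ker
    letI : Algebra (R ⧸ I) B := (Ideal.Quotient.lift I (algebraMap R B) fun a ha => hI ha).toAlgebra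
    haveI : IsScalarTower R (R ⧸ I) B := IsScalarTower.of_algebraMap_eq fun r => rfl
    have hsurj : Function.Surjective (algebraMap (R ⧸ I) B) := fun b => by
      obtain ⟨r, rfl⟩ := hB b
      exact ⟨Ideal.Quotient.mk I r, rfl⟩
    have hk1 : RingHom.ker (algebraMap (R ⧸ I) B) = perfIdeal hR1 (fun k : Fin l => Ideal.Quotient.mk I (g k.succ)) := by
      rw [show (fun k : Fin l => Ideal.Quotient.mk I (g k.succ)) = Ideal.Quotient.mk I ∘ (g ∘ Fin.succ) from rfl,
        ← map_perfIdeal h hR1]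
      refine le_antisymm (fun x hx => ?_) (Ideal.map_le_iff_le_comap.2 fun r hr => ?_)
      · obtain ⟨r, rfl⟩ := Ideal.Quotient.mk_surjective x
        have hr : r ∈ perfIdeal h g := hk ▸ hx
        refine Submodule.span_induction ?_ ?_ ?_ ?_ hr
        · rintro _ ⟨k, m, rfl⟩
          induction k using Fin.cases with
          | zero =>
            rw [Ideal.Quotient.eq_zero_iff_mem.2 (rt_mem_perfIdeal h (fun _ : Unit => g 0) () m)]
            exact zero_mem _
          | succ k => exact Ideal.mem_map_of_mem _ (rt_mem_perfIdeal h (g ∘ Fin.succ) k m)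
        · rw [map_zero]; exact zero_mem _
        · intro a b _ _ ha hb
          rw [map_add]; exact add_mem ha hb
        · intro c a _ ha
          rw [smul_eq_mul, map_mul]; exact Ideal.mul_mem_left _ _ ha
      · show algebraMap R B r = 0
        have : r ∈ perfIdeal h g := by
          refine Ideal.span_le.2 ?_ hr
          rintro _ ⟨k, m, rfl⟩
          exact rt_mem_perfIdeal h g k.succ m
        rwa [← hk] at this
    have hC1 : Perf p ((R ⧸ I) ⊗[R] C) :=
      perf_baseChange Ideal.Quotient.mk_surjective h ⟨Unit, fun _ => g 0, ker_algebraMap_mk⟩ hC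
    exact torZ_base_change (A₁ := R ⧸ I) B i C
      (fun j => torZ_single h (g 0) Ideal.Quotient.mk_surjective ker_algebraMap_mk hC j)
      (fun j => ih hR1 _ hsurj hk1 hC1 j)

theorem exists_finset_of_mem_smul_top (h : Perf p R) {J : Set R} {M : Type u} [AddCommGroup M] [Module R M] {z : M}
    (hz : z ∈ (perfIdeal h (fun x : J => x.1) • ⊤ : Submodule R M)) :
    ∃ (l : ℕ) (g : Fin l → R), (∀ k, g k ∈ J) ∧ z ∈ (perfIdeal h g • ⊤ : Submodule R M) := by
  classical
  have key : ∃ s : Finset J, z ∈ (perfIdeal h (fun x : s => (x.1 : R)) • ⊤ : Submodule R M) := by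
    have mono : ∀ {s t : Finset J}, s ⊆ t →
        perfIdeal h (fun x : s => (x.1 : R)) ≤ perfIdeal h (fun x : t => (x.1 : R)) :=
      fun hst => Ideal.span_mono fun x ⟨k, m, e⟩ => ⟨⟨k.1, hst k.2⟩, m, e⟩
    refine Submodule.smul_induction_on hz (fun a ha w _ => ?_) ?_
    · suffices ∃ s : Finset J, a ∈ perfIdeal h (fun x : s => (x.1 : R)) from
        this.imp fun s hs => Submodule.smul_mem_smul hs Submodule.mem_top
      refine Submodule.span_induction ?_ ⟨∅, zero_mem _⟩ ?_ ?_ ha
      · rintro _ ⟨k, m, rfl⟩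
        exact ⟨{k}, rt_mem_perfIdeal h (fun x : ({k} : Finset J) => (x.1 : R)) ⟨k, Finset.mem_singleton_self _⟩ m⟩
      · rintro a b _ _ ⟨s, hs⟩ ⟨t, ht⟩
        exact ⟨s ∪ t, add_mem (mono Finset.subset_union_left hs) (mono Finset.subset_union_right ht)⟩
      · rintro c a _ ⟨s, hs⟩
        exact ⟨s, Ideal.mul_mem_left _ c hs⟩
    · rintro x y ⟨s, hs⟩ ⟨t, ht⟩
      exact ⟨s ∪ t, add_mem (Submodule.smul_mono_left (mono Finset.subset_union_left) hs)
        (Submodule.smul_mono_left (mono Finset.subset_union_right) ht)⟩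
  obtain ⟨s, hs⟩ := key
  refine ⟨s.card, fun k => ((s.equivFin.symm k).1 : R), fun k => (s.equivFin.symm k).1.2,
    Submodule.smul_mono_left (Ideal.span_le.2 ?_) hs⟩
  rintro _ ⟨k, m, rfl⟩
  refine Ideal.subset_span ⟨s.equivFin k, m, ?_⟩
  simp

theorem torZ_surjective (h : Perf p R) {B : Type u} [CommRing B] [Algebra R B]
    (hB : Function.Surjective (algebraMap R B)) (hPB : Perf p B) {C : Type u} [CommRing C] [Algebra R C]
    (hC : Perf p C) (i : ℕ) : TorZ (A := R) B C i := by
  let J := RingHom.ker (algebraMap R B)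
  have hJ : J = perfIdeal h (fun x : (J : Set R) => x.1) := by
    refine le_antisymm (fun x hx => rt_mem_perfIdeal h (fun x : (J : Set R) => x.1) ⟨x, hx⟩ 0) (Ideal.span_le.2 ?_)
    rintro _ ⟨⟨x, hx⟩, m, rfl⟩
    show algebraMap R B (h.rt m x) = 0
    rw [h.map_rt hPB, show algebraMap R B x = 0 from hx, map_zero]
  refine torZ_of_invariant B
    (fun M _ _ => ∀ (l : ℕ) (g : Fin l → R), (∀ k, g k ∈ J) → ∀ j, TorZ (A := R) (R ⧸ perfIdeal h g) M j)
    (fun M _ _ F _ _ _ c hc hM => ⟨fun l g hg j => (torZ_succ_iff c hc j).1 (hM l g hg (j + 1)), ?_⟩)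
    i C (fun l g _ j => torZ_finite l h g Ideal.Quotient.mk_surjective ker_algebraMap_mk hC j)
  refine (lTensor_injective_iff hB (LinearMap.ker c).subtype).2 ?_
  intro z hz
  have hz' : (LinearMap.ker c).subtype z ∈
      (perfIdeal h (fun x : (J : Set R) => x.1) • ⊤ : Submodule R F) := hJ ▸ hz
  obtain ⟨l, g, hg, hzg⟩ := exists_finset_of_mem_smul_top h hz'
  have hinj := (torZ_zero_iff c hc).1 (hM l g hg 0)
  have hinj := (lTensor_injective_iff (B := R ⧸ perfIdeal h g) Ideal.Quotient.mk_surjective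
    (LinearMap.ker c).subtype).1 hinj
  rw [ker_algebraMap_mk] at hinj
  refine Submodule.smul_mono_left ?_ (hinj z hzg)
  refine Ideal.span_le.2 ?_
  rintro _ ⟨k, m, rfl⟩
  show algebraMap R B (h.rt m (g k)) = 0
  rw [h.map_rt hPB, show algebraMap R B (g k) = 0 from hg k, map_zero]

theorem perf_monoidAlgebra (h : Perf p R) {N : Type u} [CommMonoid N] (hN : Function.Bijective fun a : N => a ^ p) :
    Perf p (MonoidAlgebra R N) := by
  have h0 : (p : MonoidAlgebra R N) = 0 := by
    rw [← map_natCast (algebraMap R (MonoidAlgebra R N)), h.zero, map_zero]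
  let e : (N →₀ R) → (N →₀ R) := fun x =>
    Finsupp.mapDomain (fun a : N => a ^ p) (Finsupp.mapRange (fun r : R => r ^ p) (zero_pow (Fact.out : p.Prime).ne_zero) x)
  have hpow : ∀ x : N →₀ R, (MonoidAlgebra.ofCoeff x : MonoidAlgebra R N) ^ p = MonoidAlgebra.ofCoeff (e x) := by
    intro x
    induction x using Finsupp.induction_linear with
    | zero =>
      simp only [e, Finsupp.mapRange_zero, Finsupp.mapDomain_zero]
      exact zero_pow (Fact.out : p.Prime).ne_zero
    | add a b ha hb =>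
      show ((MonoidAlgebra.ofCoeff a : MonoidAlgebra R N) + MonoidAlgebra.ofCoeff b) ^ p = _
      rw [Perf.add_pow h0, ha, hb]
      simp only [e]
      rw [Finsupp.mapRange_add (f := fun r : R => r ^ p) (fun x y => Perf.add_pow h.zero x y), Finsupp.mapDomain_add]
      rfl
    | single a r =>
      simp only [e, Finsupp.mapRange_single, Finsupp.mapDomain_single]
      exact MonoidAlgebra.single_pow a r p
  refine ⟨h0, ?_⟩
  have : Function.Bijective e :=
    Function.Bijective.comp (g := Finsupp.mapDomain (M := R) fun a : N => a ^ p)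
      (f := Finsupp.mapRange (α := N) (fun r : R => r ^ p) (zero_pow (Fact.out : p.Prime).ne_zero)) ⟨Finsupp.mapDomain_injective hN.1, Finsupp.mapDomain_surjective hN.2⟩
      ⟨Finsupp.mapRange_injective _ _ h.bij.1, Finsupp.mapRange_surjective _ _ h.bij.2⟩
  have := (MonoidAlgebra.coeffEquiv.symm.bijective).comp (this.comp MonoidAlgebra.coeffEquiv.bijective)
  exact (funext fun x => hpow x.coeff : (fun x : MonoidAlgebra R N => x ^ p) = _) ▸ this

theorem Perf.of_ringEquiv {S : Type u} [CommRing S] (h : Perf p R) (e : R ≃+* S) : Perf p S :=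
  h.of_surjective e.toRingHom e.surjective fun x hx => by
    rw [RingHom.mem_ker, RingEquiv.toRingHom_eq_coe, RingEquiv.coe_toRingHom, map_eq_zero_iff _ e.injective] at hx ⊢
    exact h.eq_zero_of_pow hx

theorem torZ_perf {A B C : Type u} [CommRing A] [CommRing B] [CommRing C] [Algebra A B] [Algebra A C]
    (hA : Perf p A) (hB : Perf p B) (hC : Perf p C) (i : ℕ) : TorZ (A := A) B C i := by
  let P := MonoidAlgebra A B
  let φ : P →ₐ[A] B := MonoidAlgebra.lift A B B (MonoidHom.id B)
  letI : Algebra P B := φ.toRingHom.toAlgebra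
  haveI : IsScalarTower A P B := IsScalarTower.of_algebraMap_eq fun a => (φ.commutes a).symm
  have hsurj : Function.Surjective (algebraMap P B) := fun b => ⟨MonoidAlgebra.single b 1, by
    show φ (MonoidAlgebra.single b 1) = b
    exact (MonoidAlgebra.lift_single _ _ _).trans (one_smul A b)⟩
  have hP : Perf p P := perf_monoidAlgebra hA hB.bij
  have hC' : Perf p (P ⊗[A] C) :=
    (perf_monoidAlgebra hC hB.bij).of_ringEquiv
      ((MonoidAlgebra.scalarTensorEquiv (M := B) A C).symm.toRingEquiv.trans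
        (Algebra.TensorProduct.comm A C P).toRingEquiv)
  exact torZ_base_change (A₁ := P) B i C (fun j => torZ_of_flat P j C)
    (fun j => torZ_surjective hP hsurj hB hC' j)

end Groth.Agent.FrobAlg54
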