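import Mathlib
import Groth.Agent.FrobAlg54.FinFrob

set_option autoImplicit false
universe u v

namespace Groth.Agent.FrobAlg54

variable (p : ℕ) [Fact p.Prime]

theorem finite_frobenius_powerSeries (k : Type u) [Field k] [CharP k p] [PerfectRing k p]
    [CharP (PowerSeries k) p] : (frobenius (PowerSeries k) p).Finite := by
  classical
  have hp : p.Prime := Fact.out
  refine (finite_iff_closure _).2 ⟨(Finset.range p).image (fun i => (PowerSeries.X : PowerSeries k) ^ i), fun f => ?_⟩
  let g : ℕ → PowerSeries k := fun i =>
    PowerSeries.mk fun n => (frobeniusEquiv k p).symm (PowerSeries.coeff (p * n + i) f)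
  have hg : ∀ i, frobenius (PowerSeries k) p (g i) =
      PowerSeries.expand p hp.ne_zero (PowerSeries.mk fun n => PowerSeries.coeff (p * n + i) f) := by
    intro i
    have h := MvPowerSeries.map_frobenius_expand p hp.ne_zero (f := g i)
    rw [frobenius_def, ← h]
    change PowerSeries.map (frobenius k p) (PowerSeries.expand p hp.ne_zero (g i)) = _
    rw [PowerSeries.map_expand]
    congr 1
    ext n
    rw [PowerSeries.coeff_map, PowerSeries.coeff_mk, PowerSeries.coeff_mk]
    exact frobenius_apply_frobeniusEquiv_symm k p _
  have hf : f = ∑ i ∈ Finset.range p, frobenius (PowerSeries k) p (g i) * PowerSeries.X ^ i := by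
    ext m
    rw [map_sum]
    simp only [hg, PowerSeries.coeff_mul_X_pow']
    rw [Finset.sum_eq_single (m % p)]
    · rw [if_pos (Nat.mod_le _ _), PowerSeries.coeff_expand, if_pos (Nat.dvd_sub_mod m),
        PowerSeries.coeff_mk]
      congr 2
      rw [Nat.mul_div_cancel' (Nat.dvd_sub_mod m), Nat.sub_add_cancel (Nat.mod_le _ _)]
    · intro i hi hne
      split_ifs with hle
      · rw [PowerSeries.coeff_expand, if_neg]
        intro hdvd
        apply hne
        have h := (Nat.modEq_iff_dvd' hle).2 hdvd
        rw [Nat.ModEq, Nat.mod_eq_of_lt (Finset.mem_range.1 hi)] at h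
        exact h
      · rfl
    · intro h
      exact absurd (Finset.mem_range.2 (Nat.mod_lt _ hp.pos)) h
  rw [hf]
  exact sum_mem fun i hi => AddSubmonoid.subset_closure ⟨g i, _, Finset.mem_image_of_mem _ hi, rfl⟩

theorem finite_frobenius_of_finiteType {R : Type u} {A : Type v} [CommRing R] [CharP R p]
    (hR : (frobenius R p).Finite) [CommRing A] [CharP A p] [Algebra R A] [Algebra.FiniteType R A] :
    (frobenius A p).Finite := by
  refine RingHom.IsIntegral.to_finite (fun x => ?_) ?_
  · refine ⟨Polynomial.X ^ p - Polynomial.C x, Polynomial.monic_X_pow_sub_C x (Fact.out : p.Prime).ne_zero, ?_⟩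
    rw [Polynomial.eval₂_sub, Polynomial.eval₂_pow, Polynomial.eval₂_X, Polynomial.eval₂_C,
      frobenius_def, sub_self]
  · refine RingHom.FiniteType.of_comp_finiteType (f := algebraMap R A) ?_
    rw [← RingHom.frobenius_comm]
    exact RingHom.FiniteType.comp (RingHom.finiteType_algebraMap.2 inferInstance)
      (RingHom.Finite.finiteType hR)

end Groth.Agent.FrobAlg54
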