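import Mathlib
import Groth.Prelude.Def_WittGrp

set_option autoImplicit false
universe u

namespace Groth.Agent.FrobAlg54

variable (p : ℕ) [hp : Fact p.Prime] {m : ℕ} {R : Type u} [CommRing R]

theorem shift_injective (h : m ≤ m + 1) :
    Function.Injective (WittGrp.shift p (R := R) h) := by
  intro x y hxy
  refine TruncatedWittVector.ext fun i => ?_
  have := congrArg (fun z => TruncatedWittVector.coeff (⟨i.1 + 1, by omega⟩ : Fin (m + 1)) z) hxy
  simpa [WittGrp.coeff_shift] using this

theorem coeff_zero_shift (h : m ≤ m + 1) (x : TruncatedWittVector p m R) :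
    (WittGrp.shift p h x).coeff 0 = 0 := by
  simp [WittGrp.coeff_shift]

variable (hpR : (p : R) = 0)

theorem mul_shift (y : TruncatedWittVector p (m + 1) R) (x : TruncatedWittVector p m R) :
    y * WittGrp.shift p (Nat.le_succ m) x = WittGrp.shift p (Nat.le_succ m)
      (WittGrp.frob p m hpR (TruncatedWittVector.truncate (Nat.le_succ m) y) * x) := by
  rcases subsingleton_or_nontrivial R with hR | hR
  · exact TruncatedWittVector.ext fun i => Subsingleton.elim _ _
  have : CharP R p := (CharP.charP_iff_prime_eq_zero hp.out).mpr hpR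
  obtain ⟨Y, rfl⟩ := WittVector.truncate_surjective p (m + 1) R y
  obtain ⟨X, rfl⟩ := WittVector.truncate_surjective p m R x
  rw [TruncatedWittVector.truncate_wittVector_truncate, WittGrp.frob_truncate, ← map_mul,
    WittGrp.shift_truncate, WittGrp.shift_truncate, ← map_mul, show m + 1 - m = 1 by omega,
    Function.iterate_one, mul_comm Y, ← WittVector.verschiebung_mul_frobenius, mul_comm X]

theorem p_mul (w : TruncatedWittVector p (m + 1) R) :
    (p : TruncatedWittVector p (m + 1) R) * w = WittGrp.shift p (Nat.le_succ m)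
      (WittGrp.frob p m hpR (TruncatedWittVector.truncate (Nat.le_succ m) w)) := by
  rcases subsingleton_or_nontrivial R with hR | hR
  · exact TruncatedWittVector.ext fun i => Subsingleton.elim _ _
  have : CharP R p := (CharP.charP_iff_prime_eq_zero hp.out).mpr hpR
  obtain ⟨Y, rfl⟩ := WittVector.truncate_surjective p (m + 1) R w
  rw [TruncatedWittVector.truncate_wittVector_truncate, WittGrp.frob_truncate,
    WittGrp.shift_truncate, show m + 1 - m = 1 by omega, Function.iterate_one,
    WittVector.verschiebung_frobenius, map_mul, map_natCast, mul_comm]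

theorem eq_shift_of_coeff_zero {w : TruncatedWittVector p (m + 1) R} (h : w.coeff 0 = 0) :
    ∃ z, WittGrp.shift p (Nat.le_succ m) z = w := by
  refine ⟨TruncatedWittVector.mk p fun i => w.coeff i.succ, TruncatedWittVector.ext fun i => ?_⟩
  rw [WittGrp.coeff_shift]
  refine Fin.cases ?_ (fun j => ?_) i
  · simp [h]
  · simp

theorem coeff_zero_add (x y : TruncatedWittVector p (m + 1) R) :
    (x + y).coeff 0 = x.coeff 0 + y.coeff 0 := by
  obtain ⟨X, rfl⟩ := WittVector.truncate_surjective p (m + 1) R x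
  obtain ⟨Y, rfl⟩ := WittVector.truncate_surjective p (m + 1) R y
  simp only [← map_add, WittVector.coeff_truncate]
  exact WittVector.add_coeff_zero X Y

variable (σ : TruncatedWittVector p m R →+ R)

theorem mem_span_shift_ker (hm : 0 < m)
    (hF : ∀ x y : TruncatedWittVector p m R, σ (WittGrp.frob p m hpR x * y) = x.coeff ⟨0, hm⟩ * σ y)
    {w : TruncatedWittVector p (m + 1) R}
    (hw : w ∈ Ideal.span (WittGrp.shift p (Nat.le_succ m) '' {x : TruncatedWittVector p m R | σ x = 0})) :
    ∃ x, σ x = 0 ∧ w = WittGrp.shift p (Nat.le_succ m) x := by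
  induction hw using Submodule.span_induction with
  | mem w hw => obtain ⟨x, hx, rfl⟩ := hw; exact ⟨x, hx, rfl⟩
  | zero => exact ⟨0, map_zero _, (map_zero _).symm⟩
  | add a b _ _ ha hb =>
    obtain ⟨x, hx, rfl⟩ := ha
    obtain ⟨y, hy, rfl⟩ := hb
    exact ⟨x + y, by simp [hx, hy], (map_add _ _ _).symm⟩
  | smul a b _ hb =>
    obtain ⟨x, hx, rfl⟩ := hb
    exact ⟨_, by rw [hF, hx, mul_zero], mul_shift p hpR a x⟩

theorem quasiSplit_lifting (hm : 0 < m) (h1 : σ 1 = 1)
    (hF : ∀ x y : TruncatedWittVector p m R, σ (WittGrp.frob p m hpR x * y) = x.coeff ⟨0, hm⟩ * σ y)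
    (I : Ideal (TruncatedWittVector p (m + 1) R))
    (hI : I = Ideal.span (WittGrp.shift p (Nat.le_succ m) '' {x : TruncatedWittVector p m R | σ x = 0})) :
    (∀ w : TruncatedWittVector p (m + 1) R,
        Ideal.Quotient.mk I w ∈ Ideal.span ({(p : TruncatedWittVector p (m + 1) R ⧸ I)} : Set _) ↔
          w.coeff 0 = 0) ∧
    (∀ q : TruncatedWittVector p (m + 1) R ⧸ I,
        (p : TruncatedWittVector p (m + 1) R ⧸ I) * q = 0 ↔
          q ∈ Ideal.span ({(p : TruncatedWittVector p (m + 1) R ⧸ I)} : Set _)) := by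
  have hσF : ∀ u : TruncatedWittVector p (m + 1) R,
      σ (WittGrp.frob p m hpR (TruncatedWittVector.truncate (Nat.le_succ m) u)) = u.coeff 0 := by
    intro u
    have h := hF (TruncatedWittVector.truncate (Nat.le_succ m) u) 1
    rw [mul_one, h1, mul_one, TruncatedWittVector.coeff_truncate] at h
    exact h
  have hshiftI : ∀ x, WittGrp.shift p (Nat.le_succ m) x ∈ I → σ x = 0 := fun x hx => by
    rw [hI] at hx
    obtain ⟨y, hy, he⟩ := mem_span_shift_ker p hpR σ hm hF hx
    rwa [shift_injective p _ he]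
  have h₁ : ∀ w : TruncatedWittVector p (m + 1) R,
      Ideal.Quotient.mk I w ∈ Ideal.span ({(p : TruncatedWittVector p (m + 1) R ⧸ I)} : Set _) ↔
        w.coeff 0 = 0 := by
    intro w
    rw [Ideal.mem_span_singleton']
    constructor
    · rintro ⟨q, hq⟩
      obtain ⟨u, rfl⟩ := Ideal.Quotient.mk_surjective q
      rw [← map_natCast (Ideal.Quotient.mk I), ← map_mul, Ideal.Quotient.eq, hI] at hq
      obtain ⟨x, -, hx⟩ := mem_span_shift_ker p hpR σ hm hF hq
      have hu : u * (p : TruncatedWittVector p (m + 1) R) = w + WittGrp.shift p (Nat.le_succ m) x :=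
        sub_eq_iff_eq_add'.1 hx
      have := congrArg (fun z => TruncatedWittVector.coeff (0 : Fin (m + 1)) z) hu
      simp only [coeff_zero_add, mul_comm u, p_mul p hpR, coeff_zero_shift, add_zero] at this
      exact this.symm
    · intro hw
      obtain ⟨z, rfl⟩ := eq_shift_of_coeff_zero p hw
      let u : TruncatedWittVector p (m + 1) R :=
        TruncatedWittVector.mk p fun i => if i = 0 then σ z else 0
      refine ⟨Ideal.Quotient.mk I u, ?_⟩
      rw [← map_natCast (Ideal.Quotient.mk I), ← map_mul, Ideal.Quotient.eq, mul_comm, p_mul p hpR,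
        ← map_sub, hI]
      refine Ideal.subset_span ⟨_, ?_, rfl⟩
      change σ _ = 0
      rw [map_sub, hσF]
      simp [u]
  refine ⟨h₁, fun q => ?_⟩
  obtain ⟨w, rfl⟩ := Ideal.Quotient.mk_surjective q
  rw [h₁, ← map_natCast (Ideal.Quotient.mk I), ← map_mul, Ideal.Quotient.eq_zero_iff_mem, p_mul p hpR]
  refine ⟨fun h => (hσF w).symm.trans (hshiftI _ h), fun h => ?_⟩
  rw [hI]
  exact Ideal.subset_span ⟨_, (hσF w).trans h, rfl⟩

end Groth.Agent.FrobAlg54
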