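import Groth.Agent.UH57.Basic
import Mathlib.Algebra.CharP.Lemmas
import Mathlib.Algebra.CharP.Frobenius
import Mathlib.Order.Zorn
import Mathlib.RingTheory.IntegralClosure.IsIntegralClosure.Basic
import Mathlib.RingTheory.Finiteness.Basic

/-!
In characteristic p an integral radicial surjective map is surjective up to p-th powers.
-/

set_option autoImplicit false
universe u

namespace Groth.Agent.FrobAlg54

variable {p : ℕ} [Fact p.Prime] {A B : Type u} [CommRing A] [CommRing B] [Algebra A B] [CharP B p]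

theorem exists_pow_mem_of_finite [Module.Finite A B] (hri : UH57.RI A B)
    (hker : RingHom.ker (algebraMap A B) ≤ nilradical A) (d : B) :
    ∃ (n : ℕ) (a : A), d ^ p ^ n = algebraMap A B a := by
  classical
  have hp := (Fact.out : p.Prime)
  haveI : Algebra.IsIntegral A B := Algebra.IsIntegral.of_finite A B
  let R : Ideal A → Ideal B := fun I => (I.map (algebraMap A B)).radical
  have hRmono : Monotone R := fun I J h => Ideal.radical_mono (Ideal.map_mono h)
  have hback : ∀ (I : Ideal A) (a : A), algebraMap A B a ∈ R I → a ∈ I.radical := by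
    intro I a ha
    rw [Ideal.radical_eq_sInf, Ideal.mem_sInf]
    rintro P ⟨hIP, hP⟩
    obtain ⟨Q, -, hQ, hQP⟩ := Ideal.exists_ideal_over_prime_of_isIntegral (S := B) P ⊥
      (hker.trans (nilradical_le_prime P))
    rw [← hQP, Ideal.mem_comap]
    refine (hQ.radical_le_iff.mpr ?_) ha
    rw [Ideal.map_le_iff_le_comap, hQP]
    exact hIP
  -- ideals modulo which no power of `d` comes from `A`
  let bad : Set (Ideal A) := {I | ∀ (n : ℕ) (a : A), d ^ p ^ n - algebraMap A B a ∉ R I}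
  suffices hbot : (⊥ : Ideal A) ∉ bad by
    simp only [bad, Set.mem_setOf_eq, not_forall, not_not] at hbot
    obtain ⟨n, a, m, hm⟩ := hbot
    rw [Ideal.map_bot, Ideal.mem_bot] at hm
    have h1 : (d ^ p ^ n - algebraMap A B a) ^ p ^ m = 0 :=
      pow_eq_zero_of_le (Nat.lt_pow_self hp.one_lt).le hm
    rw [sub_pow_char_pow, sub_eq_zero, ← pow_mul, ← pow_add, ← map_pow] at h1
    exact ⟨n + m, _, h1⟩
  intro hbot
  obtain ⟨I, -, hI⟩ := zorn_le_nonempty₀ bad (fun C hC hchain x hx => by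
    refine ⟨sSup C, fun n a h => ?_, fun z hz => le_sSup hz⟩
    obtain ⟨k, hk⟩ := h
    haveI : Nonempty C := ⟨⟨x, hx⟩⟩
    rw [sSup_eq_iSup', Ideal.map_iSup] at hk
    obtain ⟨⟨J, hJ⟩, hJk⟩ := (Submodule.mem_iSup_of_directed (fun J : C => (J : Ideal A).map (algebraMap A B))
      (by
        intro J K
        rcases hchain.total J.2 K.2 with h | h
        exacts [⟨K, Ideal.map_mono h, le_rfl⟩, ⟨J, le_rfl, Ideal.map_mono h⟩])).mp hk
    exact hC hJ n a ⟨k, hJk⟩) ⊥ hbot
  have hIbad : I ∈ bad := hI.prop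
  have hmax : ∀ J, I ≤ J → ¬ J ≤ I → ∃ (n : ℕ) (a : A), d ^ p ^ n - algebraMap A B a ∈ R J := by
    intro J hle hne
    by_contra h
    push Not at h
    exact hne (hI.2 h hle)
  have hIprime : I.IsPrime := by
    have htop : I ≠ ⊤ := fun h => hIbad 0 0 (by simp [R, h, Ideal.map_top, Ideal.radical_top])
    refine ⟨htop, fun {a b} hab => ?_⟩
    by_contra hcon
    push Not at hcon
    have hlt : ∀ c ∉ I, ¬ I ⊔ Ideal.span {c} ≤ I := fun c hc h =>
      hc (h (Submodule.mem_sup_right (Ideal.mem_span_singleton_self c)))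
    obtain ⟨n₁, a₁, h₁⟩ := hmax _ le_sup_left (hlt a hcon.1)
    obtain ⟨n₂, a₂, h₂⟩ := hmax _ le_sup_left (hlt b hcon.2)
    set Ja := I ⊔ Ideal.span {a}
    set Jb := I ⊔ Ideal.span {b}
    have key : ∀ (J : Ideal A) (c : A) (n k : ℕ), d ^ p ^ n - algebraMap A B c ∈ R J →
        d ^ p ^ (n + k) - algebraMap A B (c ^ p ^ k) ∈ R J := fun J c n k h => by
      rw [pow_add, pow_mul, map_pow, ← sub_pow_char_pow]
      exact Ideal.pow_mem_of_mem _ h _ (pow_pos hp.pos k)
    have e₁ := key Ja a₁ n₁ n₂ h₁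
    have e₂ := key Jb a₂ n₂ n₁ h₂
    rw [add_comm n₂ n₁] at e₂
    set c₁ := a₁ ^ p ^ n₂
    set c₂ := a₂ ^ p ^ n₁
    set n := n₁ + n₂
    have hdiff : algebraMap A B (c₁ - c₂) ∈ R (Ja ⊔ Jb) := by
      rw [map_sub, show algebraMap A B c₁ - algebraMap A B c₂ =
        (d ^ p ^ n - algebraMap A B c₂) - (d ^ p ^ n - algebraMap A B c₁) by ring]
      exact sub_mem (hRmono le_sup_right e₂) (hRmono le_sup_left e₁)
    obtain ⟨k, hk⟩ := hback _ _ hdiff
    have hk' : (c₁ - c₂) ^ p ^ k ∈ Ja ⊔ Jb :=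
      Ideal.pow_mem_of_pow_mem _ hk (Nat.lt_pow_self hp.one_lt).le
    obtain ⟨e, he, f, hf, hef⟩ := Submodule.mem_sup.mp hk'
    have hef' : algebraMap A B (c₁ ^ p ^ k - e) = algebraMap A B (c₂ ^ p ^ k + f) := by
      have := congrArg (algebraMap A B) hef
      rw [map_add, map_pow, map_sub, sub_pow_char_pow, ← map_pow, ← map_pow] at this
      rw [map_sub, map_add]
      linear_combination -this
    set c := algebraMap A B (c₁ ^ p ^ k - e) with hc
    refine hIbad (n + k) (c₁ ^ p ^ k - e) ?_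
    have f₁ : d ^ p ^ (n + k) - c ∈ R Ja := by
      rw [hc, map_sub, ← sub_add]
      exact add_mem (key Ja c₁ n k e₁) (Ideal.le_radical (Ideal.mem_map_of_mem _ he))
    have f₂ : d ^ p ^ (n + k) - c ∈ R Jb := by
      rw [hef', map_add, ← sub_sub]
      exact sub_mem (key Jb c₂ n k e₂) (Ideal.le_radical (Ideal.mem_map_of_mem _ hf))
    have hle : Ja.map (algebraMap A B) * Jb.map (algebraMap A B) ≤ I.map (algebraMap A B) := by
      rw [← Ideal.map_mul]
      refine Ideal.map_mono ?_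
      simp only [Ja, Jb, Ideal.sup_mul, Ideal.mul_sup, Ideal.span_singleton_mul_span_singleton]
      refine sup_le (sup_le ?_ ?_) (sup_le ?_ ?_) <;>
        first
          | exact Ideal.mul_le_left
          | exact Ideal.mul_le_right
          | exact (Ideal.span_singleton_le_iff_mem _).mpr hab
    refine Ideal.radical_mono hle ?_
    rw [Ideal.radical_mul]
    exact ⟨f₁, f₂⟩
  -- the prime case
  obtain ⟨Q, -, hQ, hQI⟩ := Ideal.exists_ideal_over_prime_of_isIntegral (S := B) I ⊥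
    (hker.trans (nilradical_le_prime I))
  have hRI : R I = Q := by
    refine le_antisymm (hQ.radical_le_iff.mpr (Ideal.map_le_iff_le_comap.mpr hQI.ge)) ?_
    rw [show R I = _ from Ideal.radical_eq_sInf _]
    refine le_sInf fun Q' ⟨hIQ', hQ'⟩ => ?_
    obtain ⟨Q'', hle', hQ'', hQ''eq⟩ := Ideal.exists_ideal_over_prime_of_isIntegral (S := B)
      (Q'.comap (algebraMap A B)) Q (by rw [hQI]; exact Ideal.map_le_iff_le_comap.mp hIQ')
    have h := hri.1 (a₁ := ⟨Q'', hQ''⟩) (a₂ := ⟨Q', hQ'⟩) (PrimeSpectrum.ext hQ''eq)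
    exact hle'.trans (le_of_eq (congrArg PrimeSpectrum.asIdeal h))
  have hgen : ∀ g : B, ∃ (n : ℕ) (s a : A), algebraMap A B s ∉ Q ∧
      algebraMap A B s * g ^ p ^ n - algebraMap A B a ∈ Q := by
    intro g
    obtain ⟨a, s, hs, h | ⟨l, n, hl, hlQ, h⟩⟩ := hri.2 Q hQ g
    · exact ⟨0, s, a, hs, by simpa using h⟩
    · have hlp : l = p := by
        by_contra hne
        have hcop : Nat.Coprime l p := (Nat.coprime_primes hl hp).mpr hne
        obtain ⟨x, y, hxy⟩ := Nat.Coprime.isCoprime hcop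
        refine hQ.ne_top ((Ideal.eq_top_iff_one _).mpr ?_)
        have := congrArg (Int.castRingHom B) hxy
        simp only [map_add, map_mul, map_natCast, CharP.cast_eq_zero, mul_zero, add_zero, map_one] at this
        rw [← this]
        exact Ideal.mul_mem_left _ _ hlQ
      subst hlp
      exact ⟨n, s, a, hs, h⟩
  obtain ⟨G, hG⟩ := (Module.finite_def.mp ‹Module.Finite A B›)
  choose n s a hs ha using hgen
  set N := G.sup n
  set S := ∏ g ∈ G, s g ^ p ^ (N - n g) with hS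
  have hSQ : S ∉ I := fun h => by
    obtain ⟨g, -, hg⟩ := (Ideal.IsPrime.prod_mem_iff (hp := hIprime)).mp h
    have hg' : s g ∈ Q.comap (algebraMap A B) := by rw [hQI]; exact hIprime.mem_of_pow_mem _ hg
    exact hs g hg'
  have hall : ∀ v : B, ∃ c : A, algebraMap A B S * v ^ p ^ N - algebraMap A B c ∈ Q := by
    intro v
    have hv : v ∈ Submodule.span A (G : Set B) := hG ▸ Submodule.mem_top
    induction hv using Submodule.span_induction with
    | mem g hg =>
      refine ⟨(∏ x ∈ G.erase g, s x ^ p ^ (N - n x)) * a g ^ p ^ (N - n g), ?_⟩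
      have h1 := Ideal.pow_mem_of_mem _ (ha g) (p ^ (N - n g)) (pow_pos hp.pos _)
      rw [sub_pow_char_pow, mul_pow, ← pow_mul, ← pow_add,
        Nat.add_sub_cancel' (Finset.le_sup (Finset.mem_coe.mp hg) : n g ≤ N)] at h1
      rw [hS, ← Finset.mul_prod_erase _ _ (Finset.mem_coe.mp hg)]
      have h2 := Ideal.mul_mem_left _ (algebraMap A B (∏ x ∈ G.erase g, s x ^ p ^ (N - n x))) h1
      convert h2 using 1
      simp only [map_mul, map_pow]
      ring
    | zero => exact ⟨0, by simp [zero_pow (pow_ne_zero _ hp.ne_zero)]⟩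
    | add u w _ _ hu hw =>
      obtain ⟨cu, hcu⟩ := hu
      obtain ⟨cw, hcw⟩ := hw
      refine ⟨cu + cw, ?_⟩
      convert add_mem hcu hcw using 1
      rw [add_pow_char_pow, map_add]
      ring
    | smul r u _ hu =>
      obtain ⟨cu, hcu⟩ := hu
      refine ⟨r ^ p ^ N * cu, ?_⟩
      convert Ideal.mul_mem_left _ (algebraMap A B (r ^ p ^ N)) hcu using 1
      rw [Algebra.smul_def, mul_pow, map_mul, map_pow]
      ring
  obtain ⟨m, c, hc⟩ := hmax (I ⊔ Ideal.span {S}) le_sup_left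
    (fun h => hSQ (h (Submodule.mem_sup_right (Ideal.mem_span_singleton_self S))))
  obtain ⟨k, hk⟩ := hc
  have hk' : (d ^ p ^ m - algebraMap A B c) ^ p ^ k ∈ (I ⊔ Ideal.span {S}).map (algebraMap A B) :=
    Ideal.pow_mem_of_pow_mem _ hk (Nat.lt_pow_self hp.one_lt).le
  rw [Ideal.map_sup, Ideal.map_span, Set.image_singleton] at hk'
  obtain ⟨q, hq, u, hu, hqu⟩ := Submodule.mem_sup.mp hk'
  obtain ⟨v, rfl⟩ := Ideal.mem_span_singleton'.mp hu
  obtain ⟨cv, hcv⟩ := hall v
  obtain ⟨j, hj⟩ : ∃ j, p ^ N = j + 1 :=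
    ⟨p ^ N - 1, (Nat.succ_pred_eq_of_pos (pow_pos hp.pos N)).symm⟩
  refine hIbad (m + k + N) ((c ^ p ^ k) ^ p ^ N + S ^ j * cv) ?_
  rw [hRI]
  have hqQ : q ∈ Q := hRI ▸ Ideal.le_radical hq
  have h1 : d ^ p ^ (m + k + N) - algebraMap A B ((c ^ p ^ k) ^ p ^ N + S ^ j * cv) =
      q ^ p ^ N + algebraMap A B S ^ j * (algebraMap A B S * v ^ p ^ N - algebraMap A B cv) := by
    have e := congrArg (fun z => z ^ p ^ N) hqu
    simp only [add_pow_char_pow, mul_pow] at e
    rw [← pow_mul, ← pow_add, sub_pow_char_pow, ← pow_mul, ← pow_add] at e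
    have e2 : algebraMap A B S ^ p ^ N = algebraMap A B S ^ j * algebraMap A B S := by rw [hj, pow_succ]
    rw [map_add, map_mul, map_pow, map_pow, map_pow, ← pow_mul, ← pow_add, add_assoc m k N, mul_sub, ← mul_assoc, ← e2]
    linear_combination -e
  rw [h1]
  exact add_mem (Ideal.pow_mem_of_mem _ hqQ _ (pow_pos hp.pos N)) (Ideal.mul_mem_left _ _ hcv)

theorem exists_pow_mem_of_radicial (hint : Algebra.IsIntegral A B) (hri : UH57.RI A B)
    (hker : RingHom.ker (algebraMap A B) ≤ nilradical A) (d : B) :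
    ∃ (n : ℕ) (a : A), d ^ p ^ n = algebraMap A B a := by
  let D := Algebra.adjoin A ({d} : Set B)
  haveI : Module.Finite A D :=
    Module.Finite.of_fg (IsIntegral.fg_adjoin_singleton (hint.isIntegral d))
  haveI : CharP D p := (RingHom.charP_iff D.val.toRingHom Subtype.val_injective p).mpr inferInstance
  have hlift : ∀ Q : Ideal D, Q.IsPrime → ∃ Q' : Ideal B, Q'.IsPrime ∧ Q'.comap D.val.toRingHom = Q := by
    intro Q hQ
    haveI : Algebra.IsIntegral D B := Algebra.IsIntegral.tower_top A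
    obtain ⟨Q', -, hQ', h⟩ := Ideal.exists_ideal_over_prime_of_isIntegral (S := B) Q ⊥ (by
      rw [← RingHom.ker_eq_comap_bot, (RingHom.injective_iff_ker_eq_bot _).mp Subtype.val_injective]
      exact bot_le)
    exact ⟨Q', hQ', h⟩
  have hriD : UH57.RI A D := by
    refine ⟨fun Q₁ Q₂ h => ?_, fun Q hQ b => ?_⟩
    · obtain ⟨P₁, hP₁, e₁⟩ := hlift _ Q₁.isPrime
      obtain ⟨P₂, hP₂, e₂⟩ := hlift _ Q₂.isPrime
      have h' := congrArg PrimeSpectrum.asIdeal h
      simp only [PrimeSpectrum.comap_asIdeal, ← e₁, ← e₂, Ideal.comap_comap] at h'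
      have h'' := congrArg PrimeSpectrum.asIdeal (hri.1 (a₁ := ⟨P₁, hP₁⟩) (a₂ := ⟨P₂, hP₂⟩) (PrimeSpectrum.ext h'))
      simp only at h''
      exact PrimeSpectrum.ext (by rw [← e₁, ← e₂, h''])
    · obtain ⟨Q', hQ', e⟩ := hlift Q hQ
      obtain ⟨a, s, hs, h⟩ := hri.2 Q' hQ' (b : B)
      refine ⟨a, s, ?_, ?_⟩
      · rw [← e]; exact hs
      · simp only [← e, Ideal.mem_comap]
        rcases h with h | ⟨l, n, hl, hlQ, h⟩
        · exact .inl h
        · exact .inr ⟨l, n, hl, hlQ, h⟩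
  have hkerD : RingHom.ker (algebraMap A D) ≤ nilradical A := fun x hx => hker (by
    rw [RingHom.mem_ker] at hx ⊢
    exact congrArg Subtype.val hx)
  obtain ⟨n, a, h⟩ := exists_pow_mem_of_finite (p := p) hriD hkerD ⟨d, Algebra.self_mem_adjoin_singleton A d⟩
  exact ⟨n, a, congrArg Subtype.val h⟩

end Groth.Agent.FrobAlg54
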