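import Mathlib
import Groth.Prelude.Def_FrobAlg

set_option autoImplicit false
universe u

open TensorProduct FrobAlg

namespace Groth.Agent.FrobAlg54

theorem formallyEtale_of_bijective_relFrob (p : ℕ) [Fact p.Prime] (A : Type u) [CommRing A]
    [CharP A p] (B : Type u) [CommRing B] [Algebra A B] [CharP B p]
    (h : Function.Bijective (FrobAlg.relFrob p A B)) : Algebra.FormallyEtale A B := by
  rw [Algebra.FormallyEtale.iff_comp_bijective]
  intro C _ _ I hI
  rcases subsingleton_or_nontrivial C with hC | hC
  · refine ⟨fun g g' _ => AlgHom.ext fun b => Subsingleton.elim _ _, fun f => ?_⟩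
    refine ⟨{ toFun := fun _ => 0, map_one' := Subsingleton.elim _ _,
              map_mul' := fun _ _ => Subsingleton.elim _ _, map_zero' := rfl,
              map_add' := fun _ _ => Subsingleton.elim _ _,
              commutes' := fun _ => Subsingleton.elim _ _ }, AlgHom.ext fun b => ?_⟩
    have : Subsingleton (C ⧸ I) := Ideal.Quotient.mk_surjective.subsingleton
    exact Subsingleton.elim _ _
  have hp : p.Prime := Fact.out
  have : CharP C p := (CharP.charP_iff_prime_eq_zero hp).2 (by
    rw [← map_natCast (algebraMap A C), CharP.cast_eq_zero, map_zero])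
  have hwd : ∀ x y : C, Ideal.Quotient.mk I x = Ideal.Quotient.mk I y → x ^ p = y ^ p := by
    intro x y hxy
    rw [Ideal.Quotient.eq] at hxy
    have h2 : (x - y) ^ 2 = 0 := by
      have := Ideal.pow_mem_pow hxy 2
      rwa [hI, Ideal.mem_bot] at this
    have : (x - y) ^ p = 0 := pow_eq_zero_of_le hp.two_le h2
    rwa [sub_pow_char, sub_eq_zero] at this
  constructor
  · intro g g' hgg
    ext x
    obtain ⟨z, rfl⟩ := h.2 x
    induction z using TensorProduct.induction_on with
    | zero => simp
    | tmul b a =>
      change g (b ^ p * algebraMap A B ((toTwist p A).symm a)) =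
        g' (b ^ p * algebraMap A B ((toTwist p A).symm a))
      simp only [map_mul, map_pow, AlgHom.commutes]
      rw [hwd (g b) (g' b) (AlgHom.congr_fun hgg b)]
    | add a b ha hb => rw [map_add, map_add, map_add, ha, hb]
  · intro f
    choose s hs using fun b => Ideal.Quotient.mk_surjective (f b)
    let φ : B →ₐ[A] Target p A C :=
      { toFun := fun b => toTarget p A C (s b ^ p)
        map_one' := by
          rw [hwd (s 1) 1 (by rw [hs, map_one, map_one]), one_pow]
          exact map_one _
        map_mul' := fun x y => by
          rw [hwd (s (x * y)) (s x * s y) (by rw [hs, map_mul, map_mul, hs, hs]), mul_pow]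
          exact map_mul _ _ _
        map_zero' := by
          rw [hwd (s 0) 0 (by rw [hs, map_zero, map_zero]), zero_pow hp.ne_zero]
          exact map_zero _
        map_add' := fun x y => by
          rw [hwd (s (x + y)) (s x + s y) (by rw [hs, map_add, map_add, hs, hs]), add_pow_char]
          exact map_add _ _ _
        commutes' := fun a => by
          rw [algebraMap_target, hwd (s (algebraMap A B a)) (algebraMap A C a) (by
            rw [hs, AlgHom.commutes]; rfl)] }
    let ψ : BaseChange p A B →+* C :=
      ((toTarget p A C).symm : Target p A C →+* C).comp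
        (Algebra.TensorProduct.lift φ (inclHom p A C) (fun _ _ => Commute.all _ _)).toRingHom
    have hψ : ∀ (b : B) (a : Twist p A),
        ψ (b ⊗ₜ a) = s b ^ p * algebraMap A C ((toTwist p A).symm a) := fun b a => rfl
    let E : BaseChange p A B ≃+* B := RingEquiv.ofBijective (relFrob p A B) h
    let g : B →ₐ[A] C :=
      { toRingHom := ψ.comp (E.symm : B →+* BaseChange p A B)
        commutes' := fun a => by
          have hE : E ((1 : B) ⊗ₜ toTwist p A a) = algebraMap A B a := by
            change (1 : B) ^ p * algebraMap A B ((toTwist p A).symm (toTwist p A a)) = _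
            rw [one_pow, one_mul, RingEquiv.symm_apply_apply]
          change ψ (E.symm (algebraMap A B a)) = _
          rw [← hE, RingEquiv.symm_apply_apply, hψ, hwd (s 1) 1 (by rw [hs, map_one, map_one]),
            one_pow, one_mul, RingEquiv.symm_apply_apply] }
    refine ⟨g, AlgHom.ext fun x => ?_⟩
    obtain ⟨z, rfl⟩ := E.surjective x
    change Ideal.Quotient.mk I (ψ (E.symm (E z))) = f (E z)
    rw [RingEquiv.symm_apply_apply]
    induction z using TensorProduct.induction_on with
    | zero => simp
    | tmul b a =>
      change Ideal.Quotient.mk I (s b ^ p * algebraMap A C ((toTwist p A).symm a)) =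
        f (b ^ p * algebraMap A B ((toTwist p A).symm a))
      rw [map_mul, map_pow, hs, map_mul, map_pow, AlgHom.commutes]
      rfl
    | add a b ha hb => simp only [map_add, ha, hb]

end Groth.Agent.FrobAlg54
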