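import Mathlib
import Groth.Prelude.Def_FrobAlg

set_option autoImplicit false
universe u v

open TensorProduct FrobAlg IsLocalRing

namespace Groth.Agent.FrobAlg54

variable {R : Type u} [CommRing R] {M : Type v} [AddCommGroup M] [Module R M] {n : ℕ}

/-- the ideal of coordinates of a submodule of a free module -/
def coordIdeal (N : Submodule R (Fin n → R)) : Ideal R :=
  ⨆ i : Fin n, N.map (LinearMap.proj i)

theorem apply_mem_coordIdeal {N : Submodule R (Fin n → R)} {v : Fin n → R} (hv : v ∈ N) (i : Fin n) :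
    v i ∈ coordIdeal N :=
  le_iSup (fun i : Fin n => N.map (LinearMap.proj i)) i ⟨v, hv, rfl⟩

theorem coordIdeal_le {N : Submodule R (Fin n → R)} {I : Ideal R}
    (h : ∀ v ∈ N, ∀ i, v i ∈ I) : coordIdeal N ≤ I :=
  iSup_le fun i => Submodule.map_le_iff_le_comap.2 fun v hv => h v hv i

theorem exists_minimal_surjection [IsLocalRing R] [Module.Finite R M] :
    ∃ (n : ℕ) (π : (Fin n → R) →ₗ[R] M), Function.Surjective π ∧
      ∀ v ∈ LinearMap.ker π, ∀ i, v i ∈ maximalIdeal R := by
  classical
  have hex : ∃ n, ∃ π : (Fin n → R) →ₗ[R] M, Function.Surjective π := Module.Finite.exists_fin' R M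
  obtain ⟨π, hπ⟩ := Nat.find_spec hex
  refine ⟨_, π, hπ, fun v hv i => ?_⟩
  by_contra hu
  rw [IsLocalRing.mem_maximalIdeal, mem_nonunits_iff, not_not] at hu
  obtain ⟨m, hm⟩ : ∃ m, Nat.find hex = m + 1 :=
    Nat.exists_eq_succ_of_ne_zero (Nat.pos_iff_ne_zero.1 (lt_of_le_of_lt (Nat.zero_le _) i.2))
  refine Nat.find_min hex (m := m) (by omega) ?_
  let emb : Fin m → Fin (Nat.find hex) := fun j => Fin.cast hm.symm ((Fin.cast hm i).succAbove j)
  refine ⟨Fintype.linearCombination R (fun j => π (Pi.single (emb j) 1)), ?_⟩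
  rw [← LinearMap.range_eq_top, eq_top_iff]
  intro y _
  obtain ⟨w, rfl⟩ := hπ y
  obtain ⟨c, hc⟩ : ∃ c : R, w i - c * v i = 0 := ⟨w i * hu.unit⁻¹, by
    rw [mul_assoc, IsUnit.val_inv_mul, mul_one, sub_self]⟩
  have hw : π w = π (w - c • v) := by rw [map_sub, map_smul, LinearMap.mem_ker.1 hv, smul_zero, sub_zero]
  rw [hw, pi_eq_sum_univ' (w - c • v), map_sum]
  refine sum_mem fun j _ => ?_
  rw [map_smul]
  rcases eq_or_ne j i with rfl | hj
  · rw [show (w - c • v) j = 0 from hc, zero_smul]; exact zero_mem _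
  · refine Submodule.smul_mem _ _ ?_
    obtain ⟨t, ht⟩ := Fin.exists_succAbove_eq (x := Fin.cast hm j) (y := Fin.cast hm i)
      (fun h => hj (Fin.cast_injective _ h))
    refine ⟨Pi.single t 1, ?_⟩
    simp [emb, ht]

theorem free_of_frobenius_pullback (p : ℕ) [Fact p.Prime] [IsLocalRing R] [CharP R p]
    [Module.FinitePresentation R M]
    (e : (Twist p R ⊗[R] M) →ₛₗ[((toTwist p R).symm : Twist p R →+* R)] M)
    (he : Function.Bijective e) : Module.Free R M := by
  classical
  obtain ⟨n, π, hπ, hmin⟩ := exists_minimal_surjection (R := R) (M := M)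
  have hp : p.Prime := Fact.out
  set x : Fin n → M := fun i => π (Pi.single i 1) with hx
  set π' : (Fin n → R) →ₗ[R] M := Fintype.linearCombination R (fun i => e (1 ⊗ₜ x i)) with hπ'
  have hπ'e : ∀ v : Fin n → R, π' v = e (∑ i, toTwist p R (v i) ⊗ₜ x i) := fun v => by
    rw [hπ', Fintype.linearCombination_apply, map_sum]
    refine Finset.sum_congr rfl fun i _ => ?_
    rw [show toTwist p R (v i) ⊗ₜ[R] x i = toTwist p R (v i) • ((1 : Twist p R) ⊗ₜ[R] x i) by
      rw [TensorProduct.smul_tmul', smul_eq_mul, mul_one], map_smulₛₗ]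
    rfl
  have hgen : ∀ z : Twist p R ⊗[R] M, ∃ a : Fin n → R, z = ∑ i, toTwist p R (a i) ⊗ₜ x i := by
    intro z
    induction z using TensorProduct.induction_on with
    | zero => exact ⟨0, by simp⟩
    | tmul t m =>
      obtain ⟨w, rfl⟩ := hπ m
      refine ⟨fun i => w i ^ p * (toTwist p R).symm t, ?_⟩
      conv_lhs => rw [pi_eq_sum_univ' w, map_sum, TensorProduct.tmul_sum]
      refine Finset.sum_congr rfl fun i _ => ?_
      rw [map_smul, ← TensorProduct.smul_tmul, Algebra.smul_def, map_mul, algebraMap_twist,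
        RingEquiv.apply_symm_apply]
    | add a b ha hb =>
      obtain ⟨a', rfl⟩ := ha
      obtain ⟨b', rfl⟩ := hb
      exact ⟨a' + b', by simp [TensorProduct.add_tmul, Finset.sum_add_distrib]⟩
  have hπ'surj : Function.Surjective π' := fun y => by
    obtain ⟨z, rfl⟩ := he.2 y
    obtain ⟨a, rfl⟩ := hgen z
    exact ⟨a, hπ'e a⟩
  obtain ⟨g, hg⟩ := Module.projective_lifting_property π π' hπ
  set m : Ideal R := maximalIdeal R with hmdef
  have hgsurj : Function.Surjective g := by
    rw [← LinearMap.range_eq_top]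
    refine eq_top_iff.2 (Submodule.le_of_le_smul_of_le_jacobson_bot (I := m)
      Module.Finite.fg_top (IsLocalRing.jacobson_eq_maximalIdeal ⊥ bot_ne_top).ge ?_)
    intro v _
    obtain ⟨w, hw⟩ := hπ'surj (π v)
    refine Submodule.mem_sup.2 ⟨g w, ⟨w, rfl⟩, v - g w, ?_, add_sub_cancel _ _⟩
    have hk : v - g w ∈ LinearMap.ker π := by
      rw [LinearMap.mem_ker, map_sub, ← LinearMap.comp_apply, hg, hw, sub_self]
    rw [pi_eq_sum_univ' (v - g w)]
    exact sum_mem fun i _ => Submodule.smul_mem_smul (hmin _ hk i) Submodule.mem_top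
  set c := coordIdeal (LinearMap.ker π) with hc
  have hcm : c ≤ m := coordIdeal_le hmin
  have h1 : c ≤ coordIdeal (LinearMap.ker π') := coordIdeal_le fun v hv i => by
    obtain ⟨w, rfl⟩ := hgsurj v
    have hw : w ∈ LinearMap.ker π' := by
      rw [LinearMap.mem_ker, ← hg]; exact hv
    rw [pi_eq_sum_univ' w, map_sum, Finset.sum_apply]
    refine sum_mem fun j _ => ?_
    rw [map_smul, Pi.smul_apply, smul_eq_mul]
    exact Ideal.mul_mem_right _ _ (apply_mem_coordIdeal hw j)
  have h2 : coordIdeal (LinearMap.ker π') ≤ m * c := coordIdeal_le fun v hv i => by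
    have h0 : ∑ j, toTwist p R (v j) ⊗ₜ[R] x j = 0 := he.1 (by
      rw [← hπ'e, LinearMap.mem_ker.1 hv, map_zero])
    have hex := lTensor_exact (Twist p R) (f := (LinearMap.ker π).subtype) (g := π)
      (LinearMap.exact_subtype_ker_map π) hπ
    obtain ⟨u, hu⟩ := (hex (∑ j, toTwist p R (v j) ⊗ₜ[R] (Pi.single j 1 : Fin n → R))).1 (by
      rw [map_sum]; simpa [x] using h0)
    let Φ : Twist p R ⊗[R] (Fin n → R) →+ R :=
      ((toTwist p R).symm : Twist p R →+* R).toAddMonoidHom.comp
        ((TensorProduct.rid R (Twist p R)).toLinearMap.comp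
          (LinearMap.lTensor (Twist p R) (LinearMap.proj i))).toAddMonoidHom
    have hΦ : ∀ (t : Twist p R) (w : Fin n → R),
        Φ (t ⊗ₜ w) = w i ^ p * (toTwist p R).symm t := fun t w => by
      change (toTwist p R).symm (w i • t) = _
      rw [Algebra.smul_def, map_mul, algebraMap_twist, RingEquiv.symm_apply_apply]
    have hv' : v i = Φ (∑ j, toTwist p R (v j) ⊗ₜ[R] (Pi.single j 1 : Fin n → R)) := by
      rw [map_sum, Finset.sum_eq_single i]
      · rw [hΦ]; simp
      · intro j _ hj
        rw [hΦ, Pi.single_eq_of_ne (Ne.symm hj), zero_pow hp.ne_zero, zero_mul]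
      · simp
    rw [hv', ← hu]
    clear hu h0
    induction u using TensorProduct.induction_on with
    | zero => simp
    | tmul t k =>
      rw [LinearMap.lTensor_tmul, hΦ]
      refine Ideal.mul_mem_right _ _ ?_
      have : (k : Fin n → R) i ^ p = (k : Fin n → R) i ^ (p - 1) * (k : Fin n → R) i := by
        rw [← pow_succ, Nat.sub_add_cancel hp.one_le]
      rw [Submodule.subtype_apply, this]
      refine Ideal.mul_mem_mul (Ideal.pow_mem_of_mem _ (hmin _ k.2 i) _ ?_)
        (apply_mem_coordIdeal k.2 i)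
      have := hp.two_le
      omega
    | add a b ha hb => rw [map_add, map_add]; exact add_mem ha hb
  have hfg : c.FG := Submodule.fg_iSup _ fun i => (Module.FinitePresentation.fg_ker π hπ).map _
  have hc0 : c = ⊥ := Submodule.eq_bot_of_le_smul_of_le_jacobson_bot m c hfg (h1.trans h2)
    (IsLocalRing.jacobson_eq_maximalIdeal ⊥ bot_ne_top).ge
  have hinj : Function.Injective π := by
    rw [← LinearMap.ker_eq_bot, eq_bot_iff]
    intro v hv
    refine funext fun i => ?_
    have := apply_mem_coordIdeal hv i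
    rw [← hc, hc0] at this
    exact this
  exact Module.Free.of_equiv (LinearEquiv.ofBijective π ⟨hinj, hπ⟩)

end Groth.Agent.FrobAlg54
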