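import Mathlib
import Groth.Prelude.Def_W4c1liftfrobW2
import Groth.Agent.FrobAlg53.Lift
import Groth.Agent.Smooth28.Lift

/-!
Frobenius liftings along smooth algebras.
-/

set_option autoImplicit false
universe u v

open FrobAlg

namespace Groth.Agent.FrobAlg54

variable {p : ℕ} [Fact p.Prime] {k : Type u} [Field k] [CharP k p] [PerfectRing k p]

theorem flat_of_smooth (R S : Type v) [CommRing R] [CommRing S] [Algebra R S] [Algebra.Smooth R S] :
    Module.Flat R S := inferInstance

theorem exists_lift_twisted {B S T : Type v} [CommRing B] [CommRing S] [CommRing T] [Algebra B S]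
    (hS : Algebra.Smooth B S) (tw : B →+* T) (I : Ideal T) (hI : IsNilpotent I) (g : S →+* T ⧸ I)
    (hg : ∀ b, g (algebraMap B S b) = Ideal.Quotient.mk I (tw b)) {P : S → T → Prop}
    (hP : ∀ s t, Ideal.Quotient.mk I t = g s → P s t) :
    ∃ Φ : S →+* T, Φ.comp (algebraMap B S) = tw ∧ ∀ s, P s (Φ s) := by
  letI := tw.toAlgebra
  let g' : S →ₐ[B] T ⧸ I := { g with commutes' := fun b => (hg b).trans rfl }
  haveI := hS.formallySmooth
  obtain ⟨f, hf⟩ := Algebra.FormallySmooth.exists_lift I hI g'
  exact ⟨f.toRingHom, RingHom.ext fun b => f.commutes b, fun s => hP s _ (DFunLike.congr_fun hf s)⟩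

theorem isFLiftable_of_smooth_over {A C : Type v} [CommRing A] [CommRing C] [Algebra k A] [Algebra k C]
    [Algebra A C] [IsScalarTower k A C] [Algebra.Smooth A C] (hA : IsFLiftable p k A) : IsFLiftable p k C := by
  obtain ⟨B, _, ι, π, Φ, hΦ⟩ := hA
  letI : Algebra B A := π.toAlgebra
  letI : Algebra B C := ((algebraMap A C).comp π).toAlgebra
  haveI : IsScalarTower B A C := IsScalarTower.of_algebraMap_eq' rfl
  obtain ⟨C', _, _, hC', πC, hπC, hker⟩ :=
    Smooth28.exists_smooth_lift (R := B) (R₀ := A) (A₀ := C) hΦ.surj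
  have hker' : ∀ x : C', πC x = 0 ↔ ∃ y, x = (p : C') * y := fun x => by
    rw [show πC x = 0 ↔ x ∈ RingHom.ker πC.toRingHom from Iff.rfl, hker,
      show RingHom.ker (algebraMap B A) = Ideal.span {(p : B)} from
        hΦ.ker_eq.trans (FrobAlg53.map_ker_res ι),
      Ideal.map_span, Set.image_singleton, map_natCast, Ideal.mem_span_singleton]
    rfl
  have hflat : ((algebraMap B C').comp ι).Flat := by
    refine RingHom.Flat.comp hΦ.flat ?_
    rw [RingHom.flat_algebraMap_iff]
    exact flat_of_smooth B C'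
  have hcomm : (πC : C' →+* C).comp ((algebraMap B C').comp ι) = (algebraMap k C).comp (res p k) := by
    refine RingHom.ext fun w => ?_
    change πC (algebraMap B C' (ι w)) = algebraMap k C (res p k w)
    rw [πC.commutes]
    change algebraMap A C (π (ι w)) = _
    rw [show π (ι w) = algebraMap k A (res p k w) from RingHom.congr_fun hΦ.comm w,
      ← IsScalarTower.algebraMap_apply]
  have hlift : IsLift p k C C' ((algebraMap B C').comp ι) (πC : C' →+* C) :=
    FrobAlg53.isLift_mk (FrobAlg53.torsion_of_flat _ hflat) hπC (fun x hx => (hker' x).1 hx) hcomm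
  -- twist the structure maps by Frobenius
  let frC : C →+* C :=
    { toFun := fun c => c ^ p
      map_one' := one_pow p
      map_mul' := fun a b => mul_pow a b p
      map_zero' := zero_pow (Fact.out : p.Prime).ne_zero
      map_add' := fun a b => by
        obtain ⟨r, hr⟩ := exists_add_pow_prime_eq (Fact.out : p.Prime) a b
        rw [hr, FrobAlg53.p_eq_zero_of_algebra p (k := k) C, zero_mul, zero_mul, zero_mul, add_zero] }
  let tw : B →+* C' := (algebraMap B C').comp Φ
  have htw : ∀ b, πC (tw b) = algebraMap B C b ^ p := fun b => by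
    change πC (algebraMap B C' (Φ b)) = _
    rw [πC.commutes]
    change algebraMap A C (π (Φ b)) = algebraMap A C (π b) ^ p
    rw [hΦ.red, map_pow]
  have hnil : IsNilpotent (RingHom.ker (πC : C' →+* C)) := by
    refine ⟨2, ?_⟩
    rw [sq, Ideal.zero_eq_bot, eq_bot_iff, Ideal.mul_le]
    intro x hx y hy
    obtain ⟨a, rfl⟩ := (hker' x).1 hx
    obtain ⟨b, rfl⟩ := (hker' y).1 hy
    rw [Ideal.mem_bot, mul_mul_mul_comm, FrobAlg53.p_sq_of_hom ((algebraMap B C').comp ι), zero_mul]
  obtain ⟨Φ', hΦ'1, hΦ'2⟩ : ∃ Φ' : C' →+* C', Φ'.comp (algebraMap B C') = tw ∧ ∀ c, πC (Φ' c) = πC c ^ p := by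
    let I := RingHom.ker (πC : C' →+* C)
    let e := RingHom.quotientKerEquivOfSurjective (f := (πC : C' →+* C)) hπC
    let g : C' →+* C' ⧸ I := (e.symm : C →+* C' ⧸ I).comp (frC.comp (πC : C' →+* C))
    have hgc : ∀ b, g (algebraMap B C' b) = Ideal.Quotient.mk I (tw b) := fun b => by
      change e.symm ((πC (algebraMap B C' b)) ^ p) = _
      rw [RingEquiv.symm_apply_eq, πC.commutes, ← htw]
      exact (RingHom.quotientKerEquivOfSurjective_apply_mk hπC _).symm
    exact exists_lift_twisted hC' tw I hnil g hgc fun c x hx => by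
      have h := congrArg e hx
      exact (RingHom.quotientKerEquivOfSurjective_apply_mk hπC x).symm.trans (h.trans (e.apply_symm_apply _))
  refine ⟨C', inferInstance, _, _, Φ', { toIsLift := hlift, semi := ?_, red := hΦ'2 }⟩
  rw [← RingHom.comp_assoc, hΦ'1, RingHom.comp_assoc, RingHom.comp_assoc, hΦ.semi]

theorem isFLiftable_self : IsFLiftable p k k :=
  ⟨W2 p k, inferInstance, RingHom.id _, res p k, sigma p k,
    { flat := RingHom.Flat.id _
      surj := FrobAlg53.res_surjective
      ker_eq := by rw [Ideal.map_id]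
      comm := by simp
      semi := rfl
      red := fun b => by
        obtain ⟨X, rfl⟩ := WittVector.truncate_surjective p 2 k b
        simp [sigma, WittGrp.frob, WittGrp.frobFun, res_apply, WittVector.coeff_truncate, TruncatedWittVector.coeff_mk] }⟩

end Groth.Agent.FrobAlg54
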