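import Groth.Agent.TorMod7.Basic
import Mathlib.RingTheory.Flat.Basic
import Mathlib.LinearAlgebra.TensorProduct.Tower
import Mathlib.LinearAlgebra.Finsupp.LinearCombination

/-!
Vanishing of the positive Tor modules along chains of syzygies.
-/

set_option autoImplicit false

universe u

open CategoryTheory CategoryTheory.Limits
open scoped TensorProduct

namespace Groth.Agent.FrobAlg54

variable {A : Type u} [CommRing A]

/-- `Tor_{i+1}(N, M) = 0`. -/
def TorZ (N M : Type u) [AddCommGroup N] [Module A N] [AddCommGroup M] [Module A M] (i : ℕ) : Prop :=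
  IsZero (((Tor (ModuleCat.{u} A) (i + 1)).obj (ModuleCat.of A N)).obj (ModuleCat.of A M))

variable {N M F : Type u} [AddCommGroup N] [Module A N] [AddCommGroup M] [Module A M] [AddCommGroup F] [Module A F]
  [Module.Projective A F]

theorem torZ_zero_iff (q : F →ₗ[A] M) (hq : Function.Surjective q) :
    TorZ (A := A) N M 0 ↔ Function.Injective ((LinearMap.ker q).subtype.lTensor N) :=
  TorMod7.isZero_tor_one_iff_of_surjective (ModuleCat.of A N) q hq

theorem torZ_succ_iff (q : F →ₗ[A] M) (hq : Function.Surjective q) (i : ℕ) :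
    TorZ (A := A) N M (i + 1) ↔ TorZ (A := A) N (LinearMap.ker q) i := by
  have hF : Projective (ModuleCat.of A F) := (IsProjective.iff_projective (R := A) (P := F)).1 inferInstance
  let S := TorMod7.sesOfSurjective q hq
  refine ⟨fun h => ?_, fun h => TorMod7.isZero_tor_succ (ModuleCat.of A N) S hF i h⟩
  let G := (MonoidalCategory.tensoringLeft (ModuleCat.{u} A)).obj (ModuleCat.of A N)
  haveI : Projective S.1.X₂ := hF
  have hF0 : IsZero ((G.leftDerived (i + 1)).obj S.1.X₂) := G.isZero_leftDerived_obj_projective_succ i S.1.X₂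
  have hepi : Epi (TorMod7.leftDerivedδ G S (i + 1)) := (TorMod7.exact₁ G S (i + 1)).epi_f (hF0.eq_of_tgt _ _)
  exact @IsZero.of_epi _ _ _ _ _ (TorMod7.leftDerivedδ G S (i + 1)) hepi h

theorem torZ_congr {M M' : Type u} [AddCommGroup M] [Module A M] [AddCommGroup M'] [Module A M'] (e : M ≃ₗ[A] M')
    {i : ℕ} (h : TorZ (A := A) N M' i) : TorZ (A := A) N M i :=
  h.of_iso (((Tor (ModuleCat.{u} A) (i + 1)).obj (ModuleCat.of A N)).mapIso e.toModuleIso)

/-- The standard free cover. -/
noncomputable abbrev cover (A : Type u) [CommRing A] (M : Type u) [AddCommGroup M] [Module A M] :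
    (M →₀ A) →ₗ[A] M :=
  Finsupp.linearCombination A (id : M → M)

theorem cover_surjective (M : Type u) [AddCommGroup M] [Module A M] : Function.Surjective (cover A M) :=
  Finsupp.linearCombination_surjective _ Function.surjective_id

/-- An inductive criterion. -/
theorem torZ_of_invariant (N : Type u) [AddCommGroup N] [Module A N]
    (Q : ∀ (M : Type u) [AddCommGroup M] [Module A M], Prop)
    (hstep : ∀ (M : Type u) [AddCommGroup M] [Module A M] (F : Type u) [AddCommGroup F] [Module A F] [Module.Free A F]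
      (c : F →ₗ[A] M), Function.Surjective c → Q M →
      Q (LinearMap.ker c) ∧ Function.Injective ((LinearMap.ker c).subtype.lTensor N)) :
    ∀ (i : ℕ) (M : Type u) [AddCommGroup M] [Module A M], Q M → TorZ (A := A) N M i := by
  intro i
  induction i with
  | zero =>
    intro M _ _ hM
    exact (torZ_zero_iff (cover A M) (cover_surjective M)).2 (hstep M (M →₀ A) (cover A M) (cover_surjective M) hM).2
  | succ i ih =>
    intro M _ _ hM
    exact (torZ_succ_iff (cover A M) (cover_surjective M) i).2 (ih _ (hstep M (M →₀ A) (cover A M) (cover_surjective M) hM).1)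

theorem torZ_of_flat (N : Type u) [AddCommGroup N] [Module A N] [Module.Flat A N] (i : ℕ) (M : Type u)
    [AddCommGroup M] [Module A M] : TorZ (A := A) N M i :=
  torZ_of_invariant N (fun M _ _ => True) (fun _ _ _ F _ _ _ c _ _ =>
    ⟨trivial, Module.Flat.lTensor_preserves_injective_linearMap _ (LinearMap.ker c).injective_subtype⟩)
    i M trivial

section BaseChange

variable (A₁ : Type u) [CommRing A₁] [Algebra A A₁]

variable {A₁}

theorem lTensor_map_surjective {M F : Type u} [AddCommGroup M] [Module A M] [AddCommGroup F] [Module A F]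
    (c : F →ₗ[A] M) (hc : Function.Surjective c) :
    Function.Surjective (TensorProduct.AlgebraTensorModule.map (LinearMap.id : A₁ →ₗ[A₁] A₁) c) :=
  LinearMap.lTensor_surjective A₁ hc

theorem map_exact {K M F : Type u} [AddCommGroup K] [Module A K] [AddCommGroup M] [Module A M] [AddCommGroup F]
    [Module A F] (f : K →ₗ[A] F) (c : F →ₗ[A] M) (he : Function.Exact f c) (hc : Function.Surjective c) :
    Function.Exact (TensorProduct.AlgebraTensorModule.map (LinearMap.id : A₁ →ₗ[A₁] A₁) f)
      (TensorProduct.AlgebraTensorModule.map (LinearMap.id : A₁ →ₗ[A₁] A₁) c) :=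
  lTensor_exact A₁ he hc

/-- A kernel as a module. -/
noncomputable def kerEquiv {K' F' M' : Type u} [AddCommGroup K'] [Module A₁ K'] [AddCommGroup F'] [Module A₁ F']
    [AddCommGroup M'] [Module A₁ M'] (j : K' →ₗ[A₁] F') (q : F' →ₗ[A₁] M') (hj : Function.Injective j)
    (hex : Function.Exact j q) : K' ≃ₗ[A₁] LinearMap.ker q :=
  LinearEquiv.ofBijective (j.codRestrict (LinearMap.ker q) fun y => (hex _).2 ⟨y, rfl⟩)
    ⟨fun a b h => hj (congrArg Subtype.val h), fun x => by
      obtain ⟨y, hy⟩ := (hex x.1).1 x.2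
      exact ⟨y, Subtype.ext hy⟩⟩

theorem lTensor_injective_of_base_change {B : Type u} [AddCommGroup B] [Module A B] [Module A₁ B]
    [IsScalarTower A A₁ B] {K F : Type u} [AddCommGroup K] [Module A K] [AddCommGroup F] [Module A F]
    (f : K →ₗ[A] F)
    (h : Function.Injective ((TensorProduct.AlgebraTensorModule.map (LinearMap.id : A₁ →ₗ[A₁] A₁) f).lTensor B)) :
    Function.Injective (f.lTensor B) := by
  let cK := TensorProduct.AlgebraTensorModule.cancelBaseChange A A₁ A₁ B K
  let cF := TensorProduct.AlgebraTensorModule.cancelBaseChange A A₁ A₁ B F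
  let j := TensorProduct.AlgebraTensorModule.map (LinearMap.id : A₁ →ₗ[A₁] A₁) f
  have key : ∀ w, cF (j.lTensor B w) = f.lTensor B (cK w) := fun w => by
    induction w using TensorProduct.induction_on with
    | zero => simp
    | tmul b y =>
      induction y using TensorProduct.induction_on with
      | zero => simp
      | tmul a x => simp [cK, cF, j]
      | add a c ha hc => simp only [TensorProduct.tmul_add, map_add, ha, hc]
    | add a c ha hc => simp only [map_add, ha, hc]
  intro a b e
  obtain ⟨a, rfl⟩ := cK.surjective a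
  obtain ⟨b, rfl⟩ := cK.surjective b
  rw [← key, ← key] at e
  exact congrArg cK (h (cF.injective e))

theorem base_change_step {B M F : Type u} [AddCommGroup B] [Module A B] [Module A₁ B] [IsScalarTower A A₁ B]
    [AddCommGroup M] [Module A M] [AddCommGroup F] [Module A F] [Module.Projective A F]
    (c : F →ₗ[A] M) (hc : Function.Surjective c)
    (h1 : ∀ j, TorZ (A := A) A₁ M j) (h2 : ∀ j, TorZ (A := A₁) B (A₁ ⊗[A] M) j) :
    ((∀ j, TorZ (A := A) A₁ (LinearMap.ker c) j) ∧ ∀ j, TorZ (A := A₁) B (A₁ ⊗[A] LinearMap.ker c) j) ∧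
      Function.Injective ((LinearMap.ker c).subtype.lTensor B) := by
  let q := TensorProduct.AlgebraTensorModule.map (LinearMap.id : A₁ →ₗ[A₁] A₁) c
  let j := TensorProduct.AlgebraTensorModule.map (LinearMap.id : A₁ →ₗ[A₁] A₁) (LinearMap.ker c).subtype
  have hq : Function.Surjective q := lTensor_map_surjective c hc
  have hj : Function.Injective j := (torZ_zero_iff c hc).1 (h1 0)
  have hex : Function.Exact j q :=
    map_exact _ c (LinearMap.exact_iff.2 (Submodule.range_subtype _).symm) hc
  refine ⟨⟨fun i => (torZ_succ_iff c hc i).1 (h1 (i + 1)),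
    fun i => torZ_congr (kerEquiv j q hj hex) ((torZ_succ_iff q hq i).1 (h2 (i + 1)))⟩,
    lTensor_injective_of_base_change (A₁ := A₁) (LinearMap.ker c).subtype ?_⟩
  have h0 := (torZ_zero_iff q hq).1 (h2 0)
  have e : j.lTensor B = (LinearMap.ker q).subtype.lTensor B ∘ₗ (kerEquiv j q hj hex).toLinearMap.lTensor B := by
    rw [← LinearMap.lTensor_comp]
    rfl
  show Function.Injective (j.lTensor B)
  rw [e]
  exact h0.comp ((kerEquiv j q hj hex).lTensor B).injective

/-- Change of rings. -/
theorem torZ_base_change (B : Type u) [AddCommGroup B] [Module A B] [Module A₁ B] [IsScalarTower A A₁ B]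
    (i : ℕ) (M : Type u) [AddCommGroup M] [Module A M] (h1 : ∀ j, TorZ (A := A) A₁ M j)
    (h2 : ∀ j, TorZ (A := A₁) B (A₁ ⊗[A] M) j) : TorZ (A := A) B M i :=
  torZ_of_invariant (A := A) B
    (fun M _ _ => (∀ j, TorZ (A := A) A₁ M j) ∧ ∀ j, TorZ (A := A₁) B (A₁ ⊗[A] M) j)
    (fun M _ _ F _ _ _ c hc h => base_change_step (A := A) (A₁ := A₁) (B := B) (M := M) (F := F) c hc h.1 h.2)
    i M ⟨h1, h2⟩

end BaseChange

end Groth.Agent.FrobAlg54
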