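import Groth.Agent.FrobAlg54.RadicialPow
import Groth.Agent.FrobAlg54.PerfClos

/-!
Universal homeomorphisms and perfect closures.
-/

set_option autoImplicit false
universe u

open AlgebraicGeometry

namespace Groth.Agent.FrobAlg54

theorem isUnivHomeo_iff_bijective {p : ℕ} [Fact p.Prime] {A B A' B' : Type u} [CommRing A] [CommRing B]
    [CommRing A'] [CommRing B'] [CharP A p] [CharP B p] [CharP A' p] [CharP B' p] [PerfectRing A' p]
    [PerfectRing B' p] (φ : A →+* B) (i : A →+* A') (j : B →+* B') [IsPerfectClosure i p]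
    [IsPerfectClosure j p] (φ' : A' →+* B') (hφ : φ'.comp i = j.comp φ) :
    FlatMor.IsUnivHomeo (Spec.map (CommRingCat.ofHom φ)) ↔ Function.Bijective φ' := by
  algebraize [φ]
  have hp := (Fact.out : p.Prime)
  have hcomm : ∀ a, φ' (i a) = j (φ a) := fun a => congrArg (fun f => f a) hφ
  rw [show φ = algebraMap A B from rfl] at *
  rw [UH57.isUnivHomeo_iff]
  constructor
  · rintro ⟨hint, hri, hker⟩
    refine ⟨(injective_iff_map_eq_zero φ').2 fun x hx => ?_, fun y => ?_⟩
    · obtain ⟨n, a, ha⟩ := IsPRadical.pow_mem i p x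
      have h0 : j (algebraMap A B a) = 0 := by
        rw [← hcomm, ha, map_pow, hx, zero_pow (pow_ne_zero _ hp.ne_zero)]
      obtain ⟨m, hm⟩ := exists_pow_eq_zero_of_map_eq_zero (p := p) j h0
      rw [← map_pow] at hm
      obtain ⟨k, hk⟩ := hker (RingHom.mem_ker.2 hm)
      refine eq_of_pow_eq (p := p) (n := n + m + k) ?_
      rw [zero_pow (pow_ne_zero _ hp.ne_zero), pow_add p, pow_add p, pow_mul, pow_mul, ← ha,
        ← map_pow, ← map_pow, pow_eq_zero_of_le (Nat.lt_pow_self hp.one_lt).le hk, map_zero]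
    · obtain ⟨n, b, hb⟩ := IsPRadical.pow_mem j p y
      obtain ⟨m, a, ha⟩ := exists_pow_mem_of_radicial (p := p) hint hri hker b
      refine ⟨root (p := p) (n + m) (i a), eq_of_pow_eq (p := p) (n := n + m) ?_⟩
      rw [← map_pow, root_pow, hcomm, ← ha, map_pow, hb, ← pow_mul, ← pow_add]
  · intro hb'
    have hpow : ∀ b : B, ∃ (n : ℕ) (a : A), b ^ p ^ n = algebraMap A B a := by
      intro b
      obtain ⟨x, hx⟩ := hb'.2 (j b)
      obtain ⟨n, a, ha⟩ := IsPRadical.pow_mem i p x
      have h0 : j (b ^ p ^ n - algebraMap A B a) = 0 := by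
        rw [map_sub, map_pow, ← hx, ← map_pow, ← ha, hcomm, sub_self]
      obtain ⟨m, hm⟩ := exists_pow_eq_zero_of_map_eq_zero (p := p) j h0
      refine ⟨n + m, a ^ p ^ m, ?_⟩
      rw [sub_pow_char_pow, sub_eq_zero] at hm
      rw [pow_add, pow_mul, hm, map_pow]
    refine ⟨⟨fun b => ?_⟩, UH57.hInj_iff.1 fun K _ g₁ g₂ e => RingHom.ext fun b => ?_, fun a ha => ?_⟩
    · obtain ⟨n, a, ha⟩ := hpow b
      exact IsIntegral.of_pow (pow_pos hp.pos n) (ha ▸ isIntegral_algebraMap)
    · obtain ⟨n, a, ha⟩ := hpow b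
      haveI : CharP K p := (CharP.charP_iff_prime_eq_zero hp).2 (by
        rw [← map_natCast g₁, CharP.cast_eq_zero, map_zero])
      refine iterateFrobenius_inj K p n ?_
      rw [iterateFrobenius_def, iterateFrobenius_def, ← map_pow, ← map_pow, ha]
      exact congrArg (fun f => f a) e
    · have h1 : φ' (i a) = 0 := by rw [hcomm, RingHom.mem_ker.1 ha, map_zero]
      obtain ⟨n, hn⟩ := exists_pow_eq_zero_of_map_eq_zero (p := p) i (hb'.1 (h1.trans (map_zero φ').symm))
      exact ⟨p ^ n, hn⟩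

end Groth.Agent.FrobAlg54
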