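import Mathlib
import Groth.Prelude.Def_W4c1liftfrobW2
import Groth.Agent.FrobAlg53.Lift

/-!
Frobenius lifts and maps to Witt vectors of length two.
-/

set_option autoImplicit false
universe u v

open FrobAlg

namespace Groth.Agent.FrobAlg54

variable {p : ℕ} [Fact p.Prime] {k : Type u} [Field k] [CharP k p] [PerfectRing k p]

theorem hom_ext_teichmuller {B : Type v} [CommRing B] {f g : W2 p k →+* B}
    (h : ∀ a : k, f (WittVector.truncate 2 (WittVector.teichmuller p a)) = g (WittVector.truncate 2 (WittVector.teichmuller p a))) :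
    f = g := by
  have hres : ∀ a : k, res p k (WittVector.truncate 2 (WittVector.teichmuller p a)) = a := fun a => by
    rw [res_truncate, WittVector.teichmuller_coeff_zero]
  refine RingHom.ext fun w => ?_
  obtain ⟨y, hy⟩ := (FrobAlg53.res_eq_zero_iff (w - WittVector.truncate 2 (WittVector.teichmuller p (res p k w)))).1
    (by rw [map_sub, hres, sub_self])
  obtain ⟨z, hz⟩ := (FrobAlg53.res_eq_zero_iff (y - WittVector.truncate 2 (WittVector.teichmuller p (res p k y)))).1
    (by rw [map_sub, hres, sub_self])
  have hw : w = WittVector.truncate 2 (WittVector.teichmuller p (res p k w)) +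
      (p : W2 p k) * WittVector.truncate 2 (WittVector.teichmuller p (res p k y)) := by
    linear_combination hy + (p : W2 p k) * hz + z * FrobAlg53.p_sq (p := p) (k := k)
  rw [hw]
  simp only [map_add, map_mul, map_natCast, h]

variable {A B : Type v} [CommRing A] [Algebra k A] [CommRing B] {ι : W2 p k →+* B} {π : B →+* A}

theorem pow_eq_of_pi_eq (hB : IsLift p k A B ι π) {x y : B} (h : π x = π y) : x ^ p = y ^ p := by
  obtain ⟨z, hz⟩ := (FrobAlg53.lift_ker hB (x - y)).1 (by rw [map_sub, h, sub_self])
  obtain ⟨r, hr⟩ := exists_add_pow_prime_eq (Fact.out : p.Prime) y ((p : B) * z)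
  have hp2 : (p : B) * p = 0 := FrobAlg53.p_sq_of_hom ι
  have hpp : ((p : B) * z) ^ p = 0 := by
    obtain ⟨q, hq⟩ : ∃ q, p = q + 2 := ⟨p - 2, by have := (Fact.out : p.Prime).two_le; omega⟩
    rw [hq, pow_add, mul_pow _ _ 2, sq, ← hq, hp2, zero_mul, mul_zero]
  rw [show x = y + (p : B) * z by linear_combination hz, hr, hpp, add_zero,
    show (p : B) * y * ((p : B) * z) * r = (p : B) * p * (y * z * r) by ring, hp2, zero_mul, add_zero]

theorem ghost_one (X : WittVector p B) :
    WittVector.ghostComponent 1 X = X.coeff 0 ^ p + (p : B) * X.coeff 1 := by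
  rw [WittVector.ghostComponent_apply, wittPolynomial_eq_sum_C_mul_X_pow]
  simp [Finset.sum_range_succ]

theorem truncate_map_surjective (hs : Function.Surjective π) :
    Function.Surjective ((WittVector.truncate (p := p) 2).comp (WittVector.map π)) :=
  (WittVector.truncate_surjective p 2 A).comp (WittVector.map_surjective π hs)

/-- The ghost map `W₂(A) → B` of a lifting `B`. -/
noncomputable def ghost (hB : IsLift p k A B ι π) : W2 p A →+* B :=
  RingHom.liftOfSurjective ((WittVector.truncate 2).comp (WittVector.map π)) (truncate_map_surjective hB.surj)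
    ⟨WittVector.ghostComponent 1, fun X hX => by
      rw [RingHom.mem_ker, RingHom.comp_apply] at hX
      rw [RingHom.mem_ker, ghost_one]
      have h0 := (WittVector.mem_ker_truncate 2 _).1 (RingHom.mem_ker.2 hX) 0 (by omega)
      have h1 := (WittVector.mem_ker_truncate 2 _).1 (RingHom.mem_ker.2 hX) 1 (by omega)
      rw [WittVector.map_coeff] at h0 h1
      rw [pow_eq_of_pi_eq hB (y := 0) (by rw [h0, map_zero]), zero_pow (Fact.out : p.Prime).ne_zero,
        (FrobAlg53.lift_mul_p_eq_iff hB (X.coeff 1) 0).2 (by rw [h1, map_zero]), mul_zero, add_zero]⟩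

theorem ghost_apply (hB : IsLift p k A B ι π) (X : WittVector p B) :
    ghost hB (WittVector.truncate 2 (WittVector.map π X)) = X.coeff 0 ^ p + (p : B) * X.coeff 1 := by
  rw [← ghost_one]
  exact RingHom.liftOfRightInverse_comp_apply _ _ _ _ X

theorem exists_witt (hB : IsLift p k A B ι π) (x : W2 p A) :
    ∃ X : WittVector p B, WittVector.truncate 2 (WittVector.map π X) = x :=
  truncate_map_surjective hB.surj x

theorem pi_ghost (hB : IsLift p k A B ι π) (x : W2 p A) : π (ghost hB x) = res p A x ^ p := by
  obtain ⟨X, rfl⟩ := exists_witt hB x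
  rw [ghost_apply, res_truncate, WittVector.map_coeff, map_add, map_pow, map_mul, FrobAlg53.lift_pi_p hB, zero_mul,
    add_zero]

theorem ghost_inj (hB : IsLift p k A B ι π) {x y : W2 p A} (h0 : res p A x = res p A y)
    (h1 : ghost hB x = ghost hB y) : x = y := by
  obtain ⟨X, rfl⟩ := exists_witt hB x
  obtain ⟨Y, rfl⟩ := exists_witt hB y
  rw [res_truncate, res_truncate, WittVector.map_coeff, WittVector.map_coeff] at h0
  rw [ghost_apply, ghost_apply, pow_eq_of_pi_eq hB h0, add_left_cancel_iff,
    FrobAlg53.lift_mul_p_eq_iff hB] at h1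
  refine TruncatedWittVector.ext fun i => ?_
  rw [WittVector.coeff_truncate, WittVector.coeff_truncate, WittVector.map_coeff, WittVector.map_coeff]
  fin_cases i
  · exact h0
  · exact h1

theorem ghost_truncMap (hB : IsLift p k A B ι π) :
    (ghost hB).comp (WittGrp.truncMap p 2 (algebraMap k A)) = ι.comp (sigma p k) := by
  refine hom_ext_teichmuller fun a => ?_
  have h1 : WittGrp.truncMap p 2 (algebraMap k A) (WittVector.truncate 2 (WittVector.teichmuller p a)) =
      WittVector.truncate 2 (WittVector.map π (WittVector.teichmuller p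
        (ι (WittVector.truncate 2 (WittVector.teichmuller p a))))) := by
    rw [WittGrp.truncMap_truncate, WittVector.map_teichmuller, WittVector.map_teichmuller]
    congr 2
    have h := RingHom.congr_fun hB.comm (WittVector.truncate 2 (WittVector.teichmuller p a))
    rw [RingHom.comp_apply, RingHom.comp_apply, res_truncate, WittVector.teichmuller_coeff_zero] at h
    exact h.symm
  rw [RingHom.comp_apply, h1, ghost_apply, WittVector.teichmuller_coeff_zero,
    WittVector.teichmuller_coeff_pos (p := p) (n := 1) _ (by omega), mul_zero, add_zero, RingHom.comp_apply, ← map_pow,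
    ← map_pow, ← map_pow]
  congr 1
  refine TruncatedWittVector.ext fun i => ?_
  rw [WittGrp.coeff_frob, WittVector.coeff_truncate, WittVector.coeff_truncate]
  fin_cases i
  · change (WittVector.teichmuller p (a ^ p)).coeff 0 = (WittVector.teichmuller p a).coeff 0 ^ p
    rw [WittVector.teichmuller_coeff_zero, WittVector.teichmuller_coeff_zero]
  · change (WittVector.teichmuller p (a ^ p)).coeff 1 = (WittVector.teichmuller p a).coeff 1 ^ p
    rw [WittVector.teichmuller_coeff_pos (p := p) (n := 1) _ one_pos, WittVector.teichmuller_coeff_pos (p := p) (n := 1) _ one_pos,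
      zero_pow (Fact.out : p.Prime).ne_zero]

theorem exists_frobLift_iff (hB : IsLift p k A B ι π) :
    (∃ Φ : B →+* B, IsFrobLift p k A B ι π Φ) ↔
      ∃ θ : B →+* W2 p A, (res p A).comp θ = π ∧ θ.comp ι = WittGrp.truncMap p 2 (algebraMap k A) := by
  constructor
  · rintro ⟨Φ, hΦ⟩
    have hex : ∀ b, ∃ x : W2 p A, res p A x = π b ∧ ghost hB x = Φ b := fun b => by
      obtain ⟨d, hd⟩ := (FrobAlg53.lift_ker hB (Φ b - b ^ p)).1 (by rw [map_sub, hΦ.red, map_pow, sub_self])
      refine ⟨WittVector.truncate 2 (WittVector.map π (WittVector.mk p fun i => if i = 0 then b else d)), ?_, ?_⟩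
      · simp [res_truncate]
      · rw [ghost_apply]
        simp [← hd]
    choose θ hθ0 hθ1 using hex
    refine ⟨{ toFun := θ
              map_one' := ghost_inj hB (by rw [hθ0, map_one, map_one]) (by rw [hθ1, map_one, map_one])
              map_mul' := fun a b => ghost_inj hB (by rw [hθ0, map_mul, map_mul, hθ0, hθ0])
                (by rw [hθ1, map_mul, map_mul, hθ1, hθ1])
              map_zero' := ghost_inj hB (by rw [hθ0, map_zero, map_zero]) (by rw [hθ1, map_zero, map_zero])
              map_add' := fun a b => ghost_inj hB (by rw [hθ0, map_add, map_add, hθ0, hθ0])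
                (by rw [hθ1, map_add, map_add, hθ1, hθ1]) }, RingHom.ext hθ0, RingHom.ext fun w => ?_⟩
    change θ (ι w) = _
    refine ghost_inj hB ?_ ?_
    · rw [hθ0]
      have h := RingHom.congr_fun hB.comm w
      rw [RingHom.comp_apply, RingHom.comp_apply] at h
      rw [h, res_apply, res_apply, WittGrp.coeff_truncMap]
    · rw [hθ1]
      exact (RingHom.congr_fun hΦ.semi w).trans (RingHom.congr_fun (ghost_truncMap hB) w).symm
  · rintro ⟨θ, hθ0, hθι⟩
    refine ⟨(ghost hB).comp θ, { toIsLift := hB, semi := ?_, red := fun b => ?_ }⟩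
    · rw [RingHom.comp_assoc, hθι, ghost_truncMap hB]
    · rw [RingHom.comp_apply, pi_ghost]
      exact congrArg (· ^ p) (RingHom.congr_fun hθ0 b)

end Groth.Agent.FrobAlg54
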